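import Mathlib
import Cfsg.Agent.Cit.ParabSL2
import Cfsg.Agent.Classification.QDW.FieldRes_mg_m3
import Cfsg.Agent.Classification.InvCent.GLTwo
import Cfsg.Agent.Lib.Cores
import Cfsg.Agent.LieClassical.HermBasic
import Cfsg.Prelude.Def_CaseTheorems
import Cfsg.Agent.S1219
import Cfsg.Agent.Classification.RTwo.Main_mg
import Cfsg.Agent.GTwoOdd.CentDef
import Cfsg.Agent.S0280
import Cfsg.Agent.FastGrp
import Cfsg.Agent.Prune
set_option linter.all false

section
prune_inst 0x7ffebcfdefb8afffffff7e7ffefddffdfdb9ffffffdff9cbffe869ff8fdf4b08cbc5fb8f1feb13ff0ef7e29430fc7bd3fffffeffee6ffc7ffffdfff45ffbff8fedf7bd88519798340fbc2fffe3f07f8e7f3fffffffffffffffffffffffffffbeffffffffffff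

-- part: GTwoOdd/Core/HFiveB
section
prune_inst 0x10002104450000000000000020002000600000000020000000400000010821400000080004800100000000000000000000000000000000000000000000000000000000068008a004040000000000000000000000000000000000000000000000000000000
set_option linter.all false
open scoped Cfsg.Agent.FastGrp

-- part: GTwoOdd/Core/HFiveA
section
/-!
# Normal subgroups of odd order of `GL₂(q)` and `GU₂(q)`, `q` odd, are cyclic (scalars)
-/

set_option autoImplicit false

namespace Cfsg.Agent.GTwoOdd.Core.HFiveA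

open Subgroup Matrix Cfsg.Agent.Classification.InvCent.GLTwo

/-- A normal subgroup of odd order commutes with a normal image of `SL₂(K)`. -/
theorem comm_of_odd {X : Type*} [Group X] [Finite X] {K : Type*} [Field K] [Fintype K]
    (hK : Odd (Fintype.card K)) (j : SpecialLinearGroup (Fin 2) K →* X) (hj : Function.Injective j)
    (hn : ∀ (x : X) (s : SpecialLinearGroup (Fin 2) K), ∃ s', j s' = x * j s * x⁻¹)
    (R : Subgroup X) [hR : R.Normal] (hodd : Odd (Nat.card R)) (r : X) (hr : r ∈ R)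
    (s : SpecialLinearGroup (Fin 2) K) : r * j s = j s * r := by
  have h1 : R.comap j ≤ Cfsg.pPrimeCore 2 (SpecialLinearGroup (Fin 2) K) := by
    apply Cfsg.Agent.Lib.Cores.le_pPrimeCore (hR.comap j)
    have h2 : Nat.card (R.comap j) ∣ Nat.card R := by
      have h3 : (R.comap j).map j ≤ R := map_comap_le j R
      have h4 : Nat.card ((R.comap j).map j) = Nat.card (R.comap j) :=
        Subgroup.card_map_of_injective hj
      rw [← h4]
      exact Subgroup.card_dvd_of_le h3
    exact (Nat.coprime_two_right.2 (hodd.of_dvd_nat h2))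
  have h2 : Cfsg.pPrimeCore 2 (SpecialLinearGroup (Fin 2) K) = ⊥ := Cfsg.Agent.Cit.ParabSL2.oddCore_sl hK
  rw [h2, le_bot_iff] at h1
  obtain ⟨s', hs'⟩ := hn r s
  have h3 : s' * s⁻¹ ∈ R.comap j := by
    rw [mem_comap, map_mul, hs', map_inv]
    have h4 := hR.conj_mem r⁻¹ (inv_mem hr) (j s)
    have e : r * j s * r⁻¹ * (j s)⁻¹ = r * (j s * r⁻¹ * (j s)⁻¹) := by group
    rw [e]
    exact mul_mem hr h4
  rw [h1, mem_bot] at h3
  have h4 : s' = s := by rwa [mul_inv_eq_one] at h3
  rw [h4] at hs'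
  calc r * j s = r * j s * r⁻¹ * r := by group
    _ = j s * r := by rw [← hs']

/-- A group of scalar matrices is cyclic. -/
theorem isCyclic_of_scalar {X F : Type*} [Group X] [Finite X] [Field F] (f : X →* GL (Fin 2) F)
    (hf : Function.Injective f) (R : Subgroup X)
    (h : ∀ r ∈ R, (f r).1 0 1 = 0 ∧ (f r).1 1 0 = 0 ∧ (f r).1 0 0 = (f r).1 1 1) : IsCyclic R := by
  let g : R →* F :=
    { toFun := fun r => (f r).1 0 0
      map_one' := by simp only [_root_.OneMemClass.coe_one, _root_.map_one, _root_.Fin.isValue, _root_.Units.val_one, _root_.Matrix.one_apply_eq]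
      map_mul' := by
        intro a b
        rw [Subgroup.coe_mul, map_mul, m00, (h a a.2).1]
        ring }
  apply isCyclic_of_injective_ringHom g
  intro a b hab
  have hab' : (f a).1 0 0 = (f b).1 0 0 := hab
  apply Subtype.ext
  apply hf
  obtain ⟨a1, a2, a3⟩ := h a a.2
  obtain ⟨b1, b2, b3⟩ := h b b.2
  exact ext2 hab' (by rw [a1, b1]) (by rw [a2, b2]) (by rw [← a3, ← b3, hab'])

/-- Scalar matrices are central. -/
theorem le_center_of_scalar {X F : Type*} [Group X] [Field F] (f : X →* GL (Fin 2) F)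
    (hf : Function.Injective f) (R : Subgroup X)
    (h : ∀ r ∈ R, (f r).1 0 1 = 0 ∧ (f r).1 1 0 = 0 ∧ (f r).1 0 0 = (f r).1 1 1) : R ≤ center X := by
  intro r hr
  rw [mem_center_iff]
  intro x
  apply hf
  obtain ⟨h1, h2, h3⟩ := h r hr
  rw [map_mul, map_mul]
  apply ext2
  · rw [m00, m00, h1, h2]; ring
  · rw [m01, m01, h1, h3]; ring
  · rw [m10, m10, h2, h3]; ring
  · rw [m11, m11, h1, h2]; ring

/-- passing to a quotient by a normal subgroup of odd order -/
theorem core_of_surjective {X Y : Type*} [Group X] [Finite X] [Group Y] [Finite Y] (f : X →* Y)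
    (hf : Function.Surjective f) (hker : Odd (Nat.card f.ker))
    (h : ∀ R : Subgroup X, R.Normal → Odd (Nat.card R) → R ≤ center X ∧ IsCyclic R) :
    Cfsg.pPrimeCore 2 Y ≤ center Y ∧ IsCyclic (Cfsg.pPrimeCore 2 Y) := by
  have hn : (Cfsg.pPrimeCore 2 Y).Normal := Cfsg.Agent.Lib.Cores.pPrimeCore_normal 2
  have hodd : Odd (Nat.card (Cfsg.pPrimeCore 2 Y)) :=
    Nat.coprime_two_right.1 (Cfsg.Agent.Lib.Cores.pPrimeCore_coprime (G := Y) 2)
  set R := (Cfsg.pPrimeCore 2 Y).comap f with hR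
  have hRn : R.Normal := hn.comap f
  have hmap : R.map f = Cfsg.pPrimeCore 2 Y := map_comap_eq_self_of_surjective hf _
  have hRo : Odd (Nat.card R) := by
    rw [← Nat.not_even_iff_odd, even_iff_two_dvd]
    intro h2
    have p2 : Fact (Nat.Prime 2) := ⟨Nat.prime_two⟩
    obtain ⟨r, hr⟩ := exists_prime_orderOf_dvd_card' 2 h2
    have hrR : f r ∈ Cfsg.pPrimeCore 2 Y := r.2
    have h3 : orderOf (f r) ∣ 2 := by
      have := orderOf_map_dvd f (r : X)
      rwa [Subgroup.orderOf_coe, hr] at this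
    have h4 : orderOf (f r) ∣ Nat.card (Cfsg.pPrimeCore 2 Y) := by
      have := orderOf_dvd_natCard (⟨f r, hrR⟩ : Cfsg.pPrimeCore 2 Y)
      rwa [← Subgroup.orderOf_coe] at this
    have h5 : orderOf (f r) = 1 :=
      Nat.eq_one_of_dvd_coprimes (Nat.coprime_two_left.2 hodd) h3 h4
    have h6 : (r : X) ∈ f.ker := orderOf_eq_one_iff.1 h5
    have h7 : orderOf (r : X) ∣ Nat.card f.ker := by
      have := orderOf_dvd_natCard (⟨r, h6⟩ : f.ker)
      rwa [← Subgroup.orderOf_coe] at this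
    rw [Subgroup.orderOf_coe, hr] at h7
    exact (Nat.not_even_iff_odd.2 hker) (even_iff_two_dvd.2 h7)
  obtain ⟨h1, h2⟩ := h R hRn hRo
  constructor
  · rw [← hmap]
    rintro _ ⟨r, hr, rfl⟩
    rw [mem_center_iff]
    intro y
    obtain ⟨x, rfl⟩ := hf y
    rw [← map_mul, ← map_mul, mem_center_iff.1 (h1 hr) x]
  · rw [← hmap]
    exact isCyclic_of_surjective (f.subgroupMap R) (f.subgroupMap_surjective R)

section LinPart

variable {F : Type*} [Field F] [Fintype F]

theorem core_GL (hF : Odd (Fintype.card F)) (R : Subgroup (GL (Fin 2) F)) (hR : R.Normal)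
    (hodd : Odd (Nat.card R)) : R ≤ center (GL (Fin 2) F) ∧ IsCyclic R := by
  have key : ∀ r ∈ R, ∀ s : SpecialLinearGroup (Fin 2) F,
      r * SpecialLinearGroup.toGL s = SpecialLinearGroup.toGL s * r := by
    intro r hr s
    refine comm_of_odd hF (SpecialLinearGroup.toGL) ?_ ?_ R hodd r hr s
    · intro a b hab
      exact Subtype.ext (congrArg (fun x : GL (Fin 2) F => x.1) hab)
    · intro x s
      have hd : (x.1 * s.1 * (x⁻¹).1).det = 1 := by
        rw [det_mul, det_mul, s.2, mul_one, ← det_mul]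
        have : x.1 * (x⁻¹).1 = 1 := Units.mul_inv x
        rw [this, det_one]
      refine ⟨⟨x.1 * s.1 * (x⁻¹).1, hd⟩, ?_⟩
      apply Units.ext
      rfl
  suffices hsc : ∀ r ∈ R, ((MonoidHom.id (GL (Fin 2) F)) r).1 0 1 = 0 ∧ ((MonoidHom.id (GL (Fin 2) F)) r).1 1 0 = 0 ∧
      ((MonoidHom.id (GL (Fin 2) F)) r).1 0 0 = ((MonoidHom.id (GL (Fin 2) F)) r).1 1 1 from
    ⟨le_center_of_scalar (MonoidHom.id _) Function.injective_id R hsc,
      isCyclic_of_scalar (MonoidHom.id _) Function.injective_id R hsc⟩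
  intro r hr
  have hu : (!![1, 1; 0, 1] : Matrix (Fin 2) (Fin 2) F).det = 1 := by rw [det_fin_two_of]; ring
  have hw : (!![0, 1; -1, 0] : Matrix (Fin 2) (Fin 2) F).det = 1 := by rw [det_fin_two_of]; ring
  have h1 := congrArg (fun x : GL (Fin 2) F => x.1) (key r hr ⟨_, hu⟩)
  have h2 := congrArg (fun x : GL (Fin 2) F => x.1) (key r hr ⟨_, hw⟩)
  have e1 : r.1 * !![1, 1; 0, 1] = !![1, 1; 0, 1] * r.1 := h1
  have e2 : r.1 * !![0, 1; -1, 0] = !![0, 1; -1, 0] * r.1 := h2
  have a00 := congrFun (congrFun e1 0) 0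
  have a01 := congrFun (congrFun e1 0) 1
  have b00 := congrFun (congrFun e2 0) 0
  simp only [Matrix.mul_apply, Fin.sum_univ_two, _root_.Fin.isValue, _root_.Matrix.mul_apply, _root_.Matrix.of_apply, _root_.Matrix.cons_val', _root_.Matrix.cons_val_zero, _root_.Matrix.cons_val_fin_one, _root_.Fin.sum_univ_two, _root_.mul_one, _root_.Matrix.cons_val_one, _root_.MulZeroClass.mul_zero, _root_.add_zero, _root_.one_mul, _root_.left_eq_add, _root_.mul_neg, _root_.zero_add, _root_.MulZeroClass.zero_mul] at a00 a01 b00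
  refine ⟨?_, ?_, ?_⟩
  · change r.1 0 1 = 0
    linear_combination -b00 - a00
  · exact a00
  · change r.1 0 0 = r.1 1 1
    linear_combination a01

end LinPart

section UniPart

variable {F : Type*} [Field F] [Fintype F] {q : ℕ}

theorem core_GU (hF : Fintype.card F = q ^ 2) (hq : Odd q) (R : Subgroup (Cfsg.GU 2 F q)) (hR : R.Normal)
    (hodd : Odd (Nat.card R)) : R ≤ center (Cfsg.GU 2 F q) ∧ IsCyclic R := by
  obtain ⟨p, k, hp, -, hq', hk⟩ := Cfsg.Agent.LieClassical.HermBasic.exists_prime_pow hF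
  have : Fact p.Prime := ⟨hp⟩
  have : Fintype (GaloisField p k) := Fintype.ofFinite _
  have hK : Fintype.card (GaloisField p k) = q := by
    rw [← Nat.card_eq_fintype_card, GaloisField.card p k hk.ne', hq']
  obtain ⟨f, j, hj, hdet, hsurj, -⟩ := Cfsg.Agent.Classification.QDW.SUTwoTrace.exists_hom_GU hF hK
  have key : ∀ r ∈ R, ∀ y : Cfsg.GU 2 F q, GeneralLinearGroup.det (y : GL (Fin 2) F) = 1 →
      r * y = y * r := by
    intro r hr y hy
    obtain ⟨s, rfl⟩ := hsurj y hy
    refine comm_of_odd (by rw [hK]; exact hq) j hj ?_ R hodd r hr s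
    intro x s
    apply hsurj
    rw [Subgroup.coe_mul, Subgroup.coe_mul, map_mul, map_mul, hdet, Subgroup.coe_inv, map_inv]
    simp
  suffices hsc : ∀ r ∈ R, ((Cfsg.GU 2 F q).subtype r).1 0 1 = 0 ∧ ((Cfsg.GU 2 F q).subtype r).1 1 0 = 0 ∧
      ((Cfsg.GU 2 F q).subtype r).1 0 0 = ((Cfsg.GU 2 F q).subtype r).1 1 1 from
    ⟨le_center_of_scalar (Cfsg.GU 2 F q).subtype Subtype.val_injective R hsc,
      isCyclic_of_scalar (Cfsg.GU 2 F q).subtype Subtype.val_injective R hsc⟩
  intro r hr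
  have h2 := Cfsg.Agent.TwoFusion.GUTwo.two_le hF
  have h3 : 3 ≤ q := by
    obtain ⟨c, hc⟩ := hq
    omega
  have hw0 : (!![0, 1; -1, 0] : Matrix (Fin 2) (Fin 2) F).det ≠ 0 := by
    rw [det_fin_two_of]; simp
  let w : GL (Fin 2) F := GeneralLinearGroup.mkOfDetNeZero !![0, 1; -1, 0] hw0
  have hw : w ∈ Cfsg.GU 2 F q := by
    refine (Cfsg.Agent.TwoFusion.GUTwo.mem_iff hF w).2 ?_
    have e00 : w.1 0 0 = 0 := rfl
    have e01 : w.1 0 1 = 1 := rfl
    have e10 : w.1 1 0 = -1 := rfl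
    have e11 : w.1 1 1 = 0 := rfl
    rw [e00, e01, e10, e11]
    refine ⟨?_, ?_, ?_⟩
    · rw [hq.neg_one_pow]; ring
    · rw [zero_pow (by omega)]; ring
    · rw [zero_pow (by omega)]; ring
  have hwd : GeneralLinearGroup.det w = 1 := by
    apply Units.ext
    rw [GeneralLinearGroup.val_det_apply]
    change (!![0, 1; -1, 0] : Matrix (Fin 2) (Fin 2) F).det = 1
    rw [det_fin_two_of]; ring
  obtain ⟨a, ha⟩ := Cfsg.Agent.TwoFusion.GUTwo.exists_primitiveRoot hF (d := q + 1) (Dvd.intro_left _ rfl)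
  have ha1 : a * a ^ q = 1 := by rw [← pow_succ', ← ha, pow_orderOf_eq_one]
  have ha1' : (a : F) * (a : F) ^ q = 1 := by
    have := congrArg Units.val ha1
    simpa only [_root_.Units.val_mul, _root_.Units.val_pow_eq_pow_val, _root_.Units.val_one] using this
  have ha2 : (a : F) ≠ ((a⁻¹ : Fˣ) : F) := by
    intro h
    have h4 : a = a⁻¹ := Units.ext h
    have h5 : a ^ 2 = 1 := by
      rw [pow_two]
      nth_rewrite 1 [h4]
      exact inv_mul_cancel a
    have h6 := orderOf_dvd_of_pow_eq_one h5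
    rw [ha] at h6
    have := Nat.le_of_dvd (by norm_num) h6
    omega
  have hd : dg a a⁻¹ ∈ Cfsg.GU 2 F q := by
    refine (Cfsg.Agent.TwoFusion.GUTwo.mem_iff hF _).2 ?_
    rw [dg00, dg01, dg10, dg11]
    refine ⟨?_, ?_, ?_⟩
    · rw [zero_pow (by omega)]
      linear_combination ha1'
    · rw [zero_pow (by omega)]
      have h7 : ((a⁻¹ : Fˣ) : F) * ((a⁻¹ : Fˣ) : F) ^ q = 1 := by
        have : a⁻¹ * a⁻¹ ^ q = 1 := by
          rw [inv_pow, ← mul_inv, ha1, inv_one]
        have := congrArg Units.val this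
        simpa only [_root_.Units.val_inv_eq_inv_val, _root_.inv_pow, _root_.Units.val_mul, _root_.Units.val_pow_eq_pow_val, _root_.Units.val_one] using this
      linear_combination h7
    · rw [zero_pow (by omega)]; ring
  have hdd : GeneralLinearGroup.det (dg a a⁻¹) = 1 := by
    rw [det_dg, mul_inv_cancel]
  have k1 := congrArg (fun x : Cfsg.GU 2 F q => x.1.1) (key r hr ⟨w, hw⟩ hwd)
  have k2 := congrArg (fun x : Cfsg.GU 2 F q => x.1.1) (key r hr ⟨dg a a⁻¹, hd⟩ hdd)
  have e1 : r.1.1 * !![0, 1; -1, 0] = !![0, 1; -1, 0] * r.1.1 := k1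
  have e2 : r.1.1 * (dg a a⁻¹).1 = (dg a a⁻¹).1 * r.1.1 := k2
  have b01 := congrFun (congrFun e1 0) 1
  have c01 := congrFun (congrFun e2 0) 1
  have c10 := congrFun (congrFun e2 1) 0
  simp only [Matrix.mul_apply, Fin.sum_univ_two, dg00, dg01, dg10, dg11] at c01 c10
  simp [Matrix.mul_apply, Fin.sum_univ_two] at b01
  have hne : ((a⁻¹ : Fˣ) : F) - (a : F) ≠ 0 := sub_ne_zero.2 (Ne.symm ha2)
  refine ⟨?_, ?_, ?_⟩
  · change r.1.1 0 1 = 0
    have : r.1.1 0 1 * (((a⁻¹ : Fˣ) : F) - (a : F)) = 0 := by linear_combination c01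
    exact (mul_eq_zero.1 this).resolve_right hne
  · change r.1.1 1 0 = 0
    have : r.1.1 1 0 * (((a⁻¹ : Fˣ) : F) - (a : F)) = 0 := by linear_combination -c10
    exact (mul_eq_zero.1 this).resolve_right hne
  · change r.1.1 0 0 = r.1.1 1 1
    linear_combination b01

end UniPart

end Cfsg.Agent.GTwoOdd.Core.HFiveA
end

-- part: GTwoOdd/Core/HFiveB
section
/-!
# The centralizer of an involution of `PSU₃(q)`, `q` odd
-/

set_option autoImplicit false

namespace Cfsg.Agent.GTwoOdd.Core.HFiveB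

open Subgroup Matrix Cfsg.Agent.Classification.InvCent.GLTwo Cfsg.Agent.LieClassical.HermBasic

section gen

variable {F : Type*} [Field F]

/-- `diag(d, A)` -/
def blk (d : F) (A : Matrix (Fin 2) (Fin 2) F) : Matrix (Fin 3) (Fin 3) F :=
  !![d, 0, 0; 0, A 0 0, A 0 1; 0, A 1 0, A 1 1]

theorem blk_det (d : F) (A : Matrix (Fin 2) (Fin 2) F) : (blk d A).det = d * A.det := by
  rw [blk, det_fin_three, det_fin_two]
  simp
  ring

theorem blk_mul (d e : F) (A B : Matrix (Fin 2) (Fin 2) F) : blk d A * blk e B = blk (d * e) (A * B) := by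
  ext i j
  (revert i j; simp only [blk, Matrix.mul_apply, Fin.sum_univ_three, Fin.sum_univ_two, _root_.Fin.forall_fin_succ, Fin.isValue, _root_.Matrix.of_apply, _root_.Matrix.cons_val', _root_.Matrix.cons_val_fin_one, _root_.Matrix.cons_val_zero, _root_.Matrix.cons_val_one, _root_.Matrix.cons_val, _root_.MulZeroClass.mul_zero, _root_.add_zero, _root_.Matrix.cons_val_succ, _root_.zero_add, _root_.forall_const, _root_.MulZeroClass.zero_mul, _root_.and_self, _root_.implies_true])

theorem blk_one : blk (1 : F) 1 = 1 := by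
  ext i j
  (revert i j; simp only [blk, _root_.Fin.forall_fin_succ, _root_.Matrix.one_apply_eq, Fin.isValue, _root_.ne_eq, _root_.zero_ne_one, _root_.not_false_eq_true, _root_.Matrix.one_apply_ne, _root_.one_ne_zero, _root_.Matrix.of_apply, _root_.Matrix.cons_val', _root_.Matrix.cons_val_fin_one, _root_.Matrix.cons_val_zero, _root_.Matrix.cons_val_succ, _root_.IsEmpty.forall_iff, _root_.and_true, Nat.reduceAdd, _root_.Fin.succ_zero_eq_one, _root_.Fin.succ_one_eq_two, Fin.reduceEq, _root_.and_self, _root_.Fin.succ_ne_zero, _root_.true_and])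

theorem blk_mulVec (d : F) (A : Matrix (Fin 2) (Fin 2) F) (u : Fin 3 → F) :
    blk d A *ᵥ u = ![d * u 0, (A *ᵥ ![u 1, u 2]) 0, (A *ᵥ ![u 1, u 2]) 1] := by
  ext i
  (revert i; simp only [blk, Matrix.mulVec, dotProduct, Fin.sum_univ_three, Fin.sum_univ_two, _root_.Fin.forall_fin_succ, Fin.isValue, _root_.Matrix.of_apply, _root_.Matrix.cons_val', _root_.Matrix.cons_val_fin_one, _root_.Matrix.cons_val_zero, _root_.Matrix.cons_val_one, _root_.Matrix.cons_val, _root_.Nat.succ_eq_add_one, Nat.reduceAdd, _root_.MulZeroClass.zero_mul, _root_.add_zero, _root_.Matrix.cons_val_succ, _root_.zero_add, _root_.implies_true, _root_.and_self])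

/-- `A ↦ diag(det A⁻¹, A)` -/
noncomputable def toSL : GL (Fin 2) F →* SpecialLinearGroup (Fin 3) F where
  toFun A := ⟨blk ((A.1.det)⁻¹) A.1, by
    rw [blk_det]
    refine inv_mul_cancel₀ ?_
    have := det_ne A
    rwa [← det_fin_two] at this⟩
  map_one' := Subtype.ext (by simp [blk_one])
  map_mul' A B := Subtype.ext (by
    change blk (((A.1 * B.1).det)⁻¹) (A.1 * B.1) = blk ((A.1.det)⁻¹) A.1 * blk ((B.1.det)⁻¹) B.1
    rw [blk_mul, det_mul, mul_inv])

theorem toSL_injective : Function.Injective (toSL (F := F)) := by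
  intro A B h
  have h1 : blk ((A.1.det)⁻¹) A.1 = blk ((B.1.det)⁻¹) B.1 := congrArg Subtype.val h
  apply ext2
  · simpa [blk] using congrFun (congrFun h1 1) 1
  · simpa [blk] using congrFun (congrFun h1 1) 2
  · simpa [blk] using congrFun (congrFun h1 2) 1
  · simpa [blk] using congrFun (congrFun h1 2) 2

end gen

variable {F : Type*} [Field F] [Fintype F] {q : ℕ}

omit [Fintype F] in
theorem herm_three (u v : Fin 3 → F) :
    Cfsg.hermForm 3 F q u v = u 0 * v 0 ^ q + Cfsg.hermForm 2 F q ![u 1, u 2] ![v 1, v 2] := by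
  rw [herm_def, herm_def, Fin.sum_univ_three, Fin.sum_univ_two]
  simp only [_root_.Fin.isValue, _root_.Matrix.cons_val_zero, _root_.Matrix.cons_val_one, _root_.Matrix.cons_val_fin_one]
  ring

theorem det_norm (hF : Fintype.card F = q ^ 2) {A : GL (Fin 2) F} (hA : A ∈ Cfsg.GU 2 F q) :
    (A.1.det)⁻¹ * ((A.1.det)⁻¹) ^ q = 1 := by
  obtain ⟨h1, h3, h4⟩ := (Cfsg.Agent.TwoFusion.GUTwo.mem_iff hF A).1 hA
  have h := Cfsg.Agent.TwoFusion.GUTwo.det_norm hF h1 h3 h4
  rw [← det_fin_two] at h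
  rw [← pow_succ', inv_pow, h, inv_one]

theorem toSL_mem (hF : Fintype.card F = q ^ 2) {A : GL (Fin 2) F} (hA : A ∈ Cfsg.GU 2 F q) :
    toSL A ∈ Cfsg.SU 3 F q := by
  rw [mem_SU_iff]
  intro u v
  have hA' := (mem_GU_iff A).1 hA ![u 1, u 2] ![v 1, v 2]
  have hd := det_norm hF hA
  change Cfsg.hermForm 3 F q (blk ((A.1.det)⁻¹) A.1 *ᵥ u) (blk ((A.1.det)⁻¹) A.1 *ᵥ v) = _
  rw [blk_mulVec, blk_mulVec, herm_three, herm_three u v]
  have e1 : ∀ (a : F) (w : Fin 2 → F), ![(![a, w 0, w 1] : Fin 3 → F) 1, (![a, w 0, w 1] : Fin 3 → F) 2] = w := by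
    intro a w; ext i; fin_cases i <;> rfl
  rw [e1, e1, hA']
  change (A.1.det)⁻¹ * u 0 * ((A.1.det)⁻¹ * v 0) ^ q + _ = _
  rw [mul_pow]
  linear_combination (u 0 * v 0 ^ q) * hd

/-- the embedding of `GU₂(q)` in `SU₃(q)` -/
noncomputable def emb (hF : Fintype.card F = q ^ 2) : Cfsg.GU 2 F q →* Cfsg.SU 3 F q :=
  (toSL.comp (Cfsg.GU 2 F q).subtype).codRestrict (Cfsg.SU 3 F q) (fun A => toSL_mem hF A.2)

theorem emb_val (hF : Fintype.card F = q ^ 2) (A : Cfsg.GU 2 F q) :
    (emb hF A).1.1 = blk ((A.1.1.det)⁻¹) A.1.1 := rfl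

theorem emb_injective (hF : Fintype.card F = q ^ 2) : Function.Injective (emb (F := F) hF) := by
  intro A B h
  apply Subtype.ext
  apply toSL_injective
  exact congrArg Subtype.val h

/-- `-1` in `GU₂` -/
noncomputable def negOne (hq : Odd q) (hF : Fintype.card F = q ^ 2) : Cfsg.GU 2 F q :=
  ⟨-1, by
    have h2 := Cfsg.Agent.TwoFusion.GUTwo.two_le hF
    refine (Cfsg.Agent.TwoFusion.GUTwo.mem_iff hF _).2 ?_
    have e00 : (-1 : GL (Fin 2) F).1 0 0 = -1 := by simp
    have e01 : (-1 : GL (Fin 2) F).1 0 1 = 0 := by simp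
    have e10 : (-1 : GL (Fin 2) F).1 1 0 = 0 := by simp
    have e11 : (-1 : GL (Fin 2) F).1 1 1 = -1 := by simp
    rw [e00, e01, e10, e11]
    refine ⟨?_, ?_, ?_⟩
    · rw [hq.neg_one_pow, zero_pow (by omega)]; ring
    · rw [hq.neg_one_pow, zero_pow (by omega)]; ring
    · rw [zero_pow (by omega)]; ring⟩

theorem emb_negOne (hq : Odd q) (hF : Fintype.card F = q ^ 2) :
    (emb hF (negOne hq hF)).1.1 = !![1, 0, 0; 0, -1, 0; 0, 0, -1] := by
  rw [emb_val]
  have h : (negOne hq hF : Cfsg.GU 2 F q).1.1 = (-1 : Matrix (Fin 2) (Fin 2) F) := rfl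
  rw [h]
  ext i j
  (revert i j; simp [blk, det_fin_two, _root_.Fin.forall_fin_succ])

/-- the cyclic permutation matrix -/
theorem cyc_mem (_hF : Fintype.card F = q ^ 2) :
    ∃ c : Cfsg.SU 3 F q, c.1.1 = !![0, 1, 0; 0, 0, 1; 1, 0, 0] := by
  have hd : (!![0, 1, 0; 0, 0, 1; 1, 0, 0] : Matrix (Fin 3) (Fin 3) F).det = 1 := by
    rw [det_fin_three]; simp
  let c : SpecialLinearGroup (Fin 3) F := ⟨!![0, 1, 0; 0, 0, 1; 1, 0, 0], hd⟩
  suffices hc : c ∈ Cfsg.SU 3 F q from ⟨⟨c, hc⟩, rfl⟩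
  rw [mem_SU_iff]
  intro u v
  change Cfsg.hermForm 3 F q (!![0, 1, 0; 0, 0, 1; 1, 0, 0] *ᵥ u) (!![0, 1, 0; 0, 0, 1; 1, 0, 0] *ᵥ v) = _
  rw [herm_def, herm_def, Fin.sum_univ_three, Fin.sum_univ_three]
  simp only [Matrix.mulVec, dotProduct, Fin.sum_univ_three, _root_.Matrix.mulVec, _root_.dotProduct, _root_.Fin.isValue, _root_.Matrix.of_apply, _root_.Matrix.cons_val', _root_.Matrix.cons_val_fin_one, _root_.Matrix.cons_val_zero, _root_.Fin.sum_univ_three, _root_.MulZeroClass.zero_mul, _root_.Matrix.cons_val_one, _root_.one_mul, _root_.zero_add, _root_.Matrix.cons_val, _root_.add_zero]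
  ring

/-- elements commuting with `diag(1,-1,-1)` -/
theorem block_of_comm (hF : Fintype.card F = q ^ 2) (hq : Odd q) {g : Cfsg.SU 3 F q}
    (hg : g * emb hF (negOne hq hF) = emb hF (negOne hq hF) * g) :
    g.1.1 0 1 = 0 ∧ g.1.1 0 2 = 0 ∧ g.1.1 1 0 = 0 ∧ g.1.1 2 0 = 0 := by
  have h2 : (2 : F) ≠ 0 := by
    apply Ring.two_ne_zero
    intro h
    have h1 := FiniteField.even_card_iff_char_two.mp h
    rw [hF] at h1
    have h2 := Nat.odd_iff.mp (hq.pow (n := 2))
    omega
  have h1 : g.1.1 * (emb hF (negOne hq hF)).1.1 = (emb hF (negOne hq hF)).1.1 * g.1.1 :=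
    congrArg (fun x : Cfsg.SU 3 F q => x.1.1) hg
  rw [emb_negOne] at h1
  have a01 := congrFun (congrFun h1 0) 1
  have a02 := congrFun (congrFun h1 0) 2
  have a10 := congrFun (congrFun h1 1) 0
  have a20 := congrFun (congrFun h1 2) 0
  simp only [Matrix.mul_apply, Fin.sum_univ_three, _root_.Fin.isValue, _root_.Matrix.mul_apply, _root_.Matrix.of_apply, _root_.Matrix.cons_val', _root_.Matrix.cons_val_one, _root_.Matrix.cons_val_zero, _root_.Matrix.cons_val_fin_one, _root_.Fin.sum_univ_three, _root_.MulZeroClass.mul_zero, _root_.mul_neg, _root_.mul_one, _root_.zero_add, _root_.Matrix.cons_val, _root_.add_zero, _root_.one_mul, _root_.MulZeroClass.zero_mul, _root_.neg_mul] at a01 a02 a10 a20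
  have key : ∀ x : F, -x = x → x = 0 := by
    intro x hx
    have : (2 : F) * x = 0 := by linear_combination -hx
    exact (mul_eq_zero.1 this).resolve_left h2
  exact ⟨key _ a01, key _ a02, key _ a10.symm, key _ a20.symm⟩

theorem center_scalar (hF : Fintype.card F = q ^ 2) (hq : Odd q) {z : Cfsg.SU 3 F q}
    (hz : z ∈ center (Cfsg.SU 3 F q)) : z.1.1 = z.1.1 0 0 • (1 : Matrix (Fin 3) (Fin 3) F) := by
  obtain ⟨h01, h02, h10, h20⟩ := block_of_comm hF hq ((mem_center_iff.1 hz (emb hF (negOne hq hF))).symm)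
  obtain ⟨c, hc⟩ := cyc_mem (q := q) hF
  have h1 : c.1.1 * z.1.1 = z.1.1 * c.1.1 :=
    congrArg (fun x : Cfsg.SU 3 F q => x.1.1) (mem_center_iff.1 hz c)
  rw [hc] at h1
  have a := fun i j => congrFun (congrFun h1 i) j
  have a00 := a 0 0
  have a01 := a 0 1
  have a02 := a 0 2
  have a10 := a 1 0
  have a11 := a 1 1
  have a12 := a 1 2
  simp only [Matrix.mul_apply, Fin.sum_univ_three, _root_.Fin.isValue, _root_.Matrix.mul_apply, _root_.Matrix.of_apply, _root_.Matrix.cons_val', _root_.Matrix.cons_val_fin_one, _root_.Matrix.cons_val_zero, _root_.Fin.sum_univ_three, _root_.MulZeroClass.zero_mul, _root_.Matrix.cons_val_one, _root_.one_mul, _root_.zero_add, _root_.Matrix.cons_val, _root_.add_zero, _root_.MulZeroClass.mul_zero, _root_.mul_one] at a00 a01 a02 a10 a11 a12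
  ext i j
  (revert i j; simp only [h01, h02, h10, h20, a01, a02, a11, a12, _root_.Fin.forall_fin_succ, Fin.isValue, _root_.Matrix.smul_apply, _root_.smul_eq_mul, _root_.Fin.succ_zero_eq_one, _root_.Fin.succ_one_eq_two, _root_.IsEmpty.forall_iff, _root_.and_true, _root_.Matrix.one_apply_eq, _root_.mul_one, Nat.reduceAdd, _root_.ne_eq, _root_.zero_ne_one, _root_.not_false_eq_true, _root_.Matrix.one_apply_ne, _root_.MulZeroClass.mul_zero, Fin.reduceEq, _root_.and_self, _root_.Fin.succ_ne_zero])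

theorem pow_three_of_center (hF : Fintype.card F = q ^ 2) (hq : Odd q) {z : Cfsg.SU 3 F q}
    (hz : z ∈ center (Cfsg.SU 3 F q)) : z ^ 3 = 1 := by
  have h := center_scalar hF hq hz
  have hd : z.1.1.det = 1 := z.1.2
  rw [h, det_smul, det_one, mul_one, Fintype.card_fin] at hd
  apply Subtype.ext
  apply Subtype.ext
  change (z.1.1) ^ 3 = 1
  rw [h, smul_pow, one_pow, hd, one_smul]

/-- an element of `SU₃(q)` commuting with `diag(1,-1,-1)` comes from `GU₂(q)` -/
theorem exists_emb (hF : Fintype.card F = q ^ 2) (hq : Odd q) {g : Cfsg.SU 3 F q}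
    (hg : g * emb hF (negOne hq hF) = emb hF (negOne hq hF) * g) : ∃ A, emb hF A = g := by
  obtain ⟨h01, h02, h10, h20⟩ := block_of_comm hF hq hg
  set B : Matrix (Fin 2) (Fin 2) F := !![g.1.1 1 1, g.1.1 1 2; g.1.1 2 1, g.1.1 2 2] with hB
  have hgB : g.1.1 = blk (g.1.1 0 0) B := by
    ext i j
    (revert i j; simp only [blk, hB, h01, h02, h10, h20, _root_.Fin.forall_fin_succ, Fin.isValue, _root_.Matrix.of_apply, _root_.Matrix.cons_val', _root_.Matrix.cons_val_zero, _root_.Matrix.cons_val_fin_one, _root_.Matrix.cons_val_one, _root_.Matrix.cons_val_succ, _root_.Fin.succ_zero_eq_one, _root_.Fin.succ_one_eq_two, _root_.IsEmpty.forall_iff, _root_.and_true, _root_.and_self])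
  have hd : g.1.1 0 0 * B.det = 1 := by
    have : g.1.1.det = 1 := g.1.2
    rw [hgB, blk_det] at this
    exact this
  have hB0 : B.det ≠ 0 := by
    intro h
    rw [h, mul_zero] at hd
    exact zero_ne_one hd
  have hinv : g.1.1 0 0 = (B.det)⁻¹ := eq_inv_of_mul_eq_one_left hd
  let A : GL (Fin 2) F := GeneralLinearGroup.mkOfDetNeZero B hB0
  have hA1 : A.1 = B := rfl
  have hA : A ∈ Cfsg.GU 2 F q := by
    rw [mem_GU_iff]
    intro u v
    have h1 := (mem_SU_iff g.1).1 g.2 ![0, u 0, u 1] ![0, v 0, v 1]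
    change Cfsg.hermForm 3 F q (g.1.1 *ᵥ ![0, u 0, u 1]) (g.1.1 *ᵥ ![0, v 0, v 1]) = _ at h1
    rw [hgB, blk_mulVec, blk_mulVec, herm_three, herm_three (![0, u 0, u 1]) (![0, v 0, v 1])] at h1
    have e1 : ∀ (a : F) (w : Fin 2 → F), ![(![a, w 0, w 1] : Fin 3 → F) 1, (![a, w 0, w 1] : Fin 3 → F) 2] = w := by
      intro a w; ext i; fin_cases i <;> rfl
    rw [e1, e1, e1, e1] at h1
    change (g.1.1 0 0 * 0) * (g.1.1 0 0 * 0) ^ q + _ = 0 * (0 : F) ^ q + _ at h1
    rw [mul_zero, zero_mul, zero_add, zero_add] at h1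
    exact h1
  refine ⟨⟨A, hA⟩, ?_⟩
  apply Subtype.ext
  apply Subtype.ext
  rw [emb_val]
  change blk ((B.det)⁻¹) B = g.1.1
  rw [hgB, ← hinv]

/-- the image of `diag(1,-1,-1)` in `PSU₃(q)` -/
noncomputable def vv (hF : Fintype.card F = q ^ 2) (hq : Odd q) : Cfsg.PSU 3 F q :=
  QuotientGroup.mk (emb hF (negOne hq hF))

theorem negOne_mul (hF : Fintype.card F = q ^ 2) (hq : Odd q) : negOne hq hF * negOne hq hF = (1 : Cfsg.GU 2 F q) := by
  apply Subtype.ext
  change (-1 : GL (Fin 2) F) * -1 = 1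
  simp

theorem orderOf_vv (hF : Fintype.card F = q ^ 2) (hq : Odd q) : orderOf (vv (F := F) hF hq) = 2 := by
  apply orderOf_eq_prime
  · rw [pow_two, vv, ← QuotientGroup.mk_mul, ← map_mul, negOne_mul, map_one, QuotientGroup.mk_one]
  · intro h
    rw [vv, QuotientGroup.eq_one_iff] at h
    have h1 := center_scalar hF hq h
    have h2 := pow_three_of_center hF hq h
    rw [← map_pow, pow_succ, pow_two, negOne_mul, one_mul] at h2
    have h3 : (emb hF (negOne hq hF)).1.1 1 1 = 1 := by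
      rw [h2]; rfl
    rw [emb_negOne] at h3
    have h4 : (-1 : F) = 1 := by simpa using h3
    have h5 : (2 : F) = 0 := by linear_combination -h4
    have h6 : (2 : F) ≠ 0 := by
      apply Ring.two_ne_zero
      intro h
      have h1 := FiniteField.even_card_iff_char_two.mp h
      rw [hF] at h1
      have h2 := Nat.odd_iff.mp (hq.pow (n := 2))
      omega
    exact h6 h5

/-- `GU₂(q) → C(v)` -/
noncomputable def toC (hF : Fintype.card F = q ^ 2) (hq : Odd q) :
    Cfsg.GU 2 F q →* Subgroup.centralizer ({vv (F := F) hF hq} : Set (Cfsg.PSU 3 F q)) :=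
  ((QuotientGroup.mk' (center (Cfsg.SU 3 F q))).comp (emb hF)).codRestrict _ (fun A => by
    rw [mem_centralizer_singleton_iff]
    change (QuotientGroup.mk (emb hF A) : Cfsg.PSU 3 F q) * vv hF hq = vv hF hq * QuotientGroup.mk (emb hF A)
    rw [vv, ← QuotientGroup.mk_mul, ← QuotientGroup.mk_mul, ← map_mul, ← map_mul]
    congr 2
    apply Subtype.ext
    change A.1 * (-1 : GL (Fin 2) F) = -1 * A.1
    simp)

theorem toC_surjective (hF : Fintype.card F = q ^ 2) (hq : Odd q) : Function.Surjective (toC (F := F) hF hq) := by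
  rintro ⟨y, hy⟩
  obtain ⟨g, rfl⟩ := QuotientGroup.mk_surjective y
  rw [mem_centralizer_singleton_iff] at hy
  set t := emb hF (negOne hq hF) with ht
  have htt : t * t = 1 := by rw [ht, ← map_mul, negOne_mul, map_one]
  have h1 : (QuotientGroup.mk (g * t) : Cfsg.PSU 3 F q) = QuotientGroup.mk (t * g) := hy
  have h2 : (t * g)⁻¹ * (g * t) ∈ center (Cfsg.SU 3 F q) := QuotientGroup.eq.1 h1.symm
  set z := (t * g)⁻¹ * (g * t) with hz
  have hcomm := fun x => mem_center_iff.1 h2 x
  have h3 : g * t = t * g * z := by rw [hz]; group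
  have h4 : g * t * g⁻¹ = t * z := by
    rw [h3, mul_assoc, mul_assoc, hcomm g⁻¹ |>.symm]
    group
  have h5 : z * z = 1 := by
    have h6 : (g * t * g⁻¹) * (g * t * g⁻¹) = 1 := by
      calc (g * t * g⁻¹) * (g * t * g⁻¹) = g * (t * t) * g⁻¹ := by group
        _ = 1 := by rw [htt]; group
    rw [h4] at h6
    calc z * z = t * t * (z * z) := by rw [htt, one_mul]
      _ = t * (t * z) * z := by group
      _ = t * (z * t) * z := by rw [hcomm t]
      _ = (t * z) * (t * z) := by group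
      _ = 1 := h6
  have h6 : z ^ 3 = 1 := pow_three_of_center hF hq h2
  have h7 : z = 1 := by
    rw [pow_succ, pow_two, h5, one_mul] at h6
    exact h6
  rw [h7, mul_one] at h3
  obtain ⟨A, hA⟩ := exists_emb hF hq h3
  refine ⟨A, Subtype.ext ?_⟩
  change (QuotientGroup.mk (emb hF A) : Cfsg.PSU 3 F q) = QuotientGroup.mk g
  rw [hA]

theorem odd_ker (hF : Fintype.card F = q ^ 2) (hq : Odd q) : Odd (Nat.card (toC (F := F) hF hq).ker) := by
  rw [← Nat.not_even_iff_odd, even_iff_two_dvd]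
  intro h
  have p2 : Fact (Nat.Prime 2) := ⟨Nat.prime_two⟩
  obtain ⟨r, hr⟩ := exists_prime_orderOf_dvd_card' 2 h
  have h1 : (toC hF hq (r : Cfsg.GU 2 F q)) = 1 := r.2
  have h2 : (QuotientGroup.mk (emb hF (r : Cfsg.GU 2 F q)) : Cfsg.PSU 3 F q) = 1 := congrArg Subtype.val h1
  rw [QuotientGroup.eq_one_iff] at h2
  have h3 := pow_three_of_center hF hq h2
  rw [← map_pow, ← map_one (emb hF)] at h3
  have h4 : (r : Cfsg.GU 2 F q) ^ 3 = 1 := emb_injective hF h3
  have h5 : orderOf (r : Cfsg.GU 2 F q) ∣ 3 := orderOf_dvd_of_pow_eq_one h4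
  rw [Subgroup.orderOf_coe, hr] at h5
  omega

theorem core_PSU (hF : Fintype.card F = q ^ 2) (hq : Odd q) :
    Cfsg.pPrimeCore 2 (Subgroup.centralizer ({vv (F := F) hF hq} : Set (Cfsg.PSU 3 F q))) ≤ center _ ∧
      IsCyclic (Cfsg.pPrimeCore 2 (Subgroup.centralizer ({vv (F := F) hF hq} : Set (Cfsg.PSU 3 F q)))) :=
  HFiveA.core_of_surjective (toC hF hq) (toC_surjective hF hq) (odd_ker hF hq)
    (fun R hR hR' => HFiveA.core_GU hF hq R hR hR')

end Cfsg.Agent.GTwoOdd.Core.HFiveB
end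

private theorem dce_d840dea40313 : _root_.True := by
  try have : _root_.True := by simp only [_root_.Cfsg.Agent.GTwoOdd.Core.HFiveB.vv.eq_1]
  try have : _root_.True := by simp only [_root_.Cfsg.Agent.GTwoOdd.Core.HFiveB.blk.eq_1]
  exact _root_.True.intro
end

-- part: GTwoOdd/Core/HFive
section
set_option linter.all false
open scoped Cfsg.Agent.FastGrp

/-!
# [H5]: cores of involution centralizers in simple groups with wreathed Sylow 2-subgroups

`core` : `L` finite simple with wreathed Sylow 2-subgroups, isomorphic to `PSL₃(q)` or `PSU₃(q)`, `q` odd, or of order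
7920 (conclusion of S0523); `v` an involution. Then `O(C_L(v))` is central in `C_L(v)` and cyclic.
-/

set_option autoImplicit false

namespace Cfsg.Agent.GTwoOdd.Core.HFive

open Subgroup

universe u

theorem transport {X Y : Type*} [Group X] [Finite X] [Group Y] [Finite Y] (e : X ≃* Y)
    (h : Cfsg.pPrimeCore 2 X ≤ center X ∧ IsCyclic (Cfsg.pPrimeCore 2 X)) :
    Cfsg.pPrimeCore 2 Y ≤ center Y ∧ IsCyclic (Cfsg.pPrimeCore 2 Y) := by
  have hmap := Cfsg.Agent.Lib.Cores.map_equiv_pPrimeCore e 2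
  obtain ⟨h1, h2⟩ := h
  constructor
  · rw [← hmap]
    rintro _ ⟨r, hr, rfl⟩
    rw [mem_center_iff]
    intro y
    obtain ⟨x, rfl⟩ := e.surjective y
    change e x * e r = e r * e x
    rw [← map_mul, ← map_mul, mem_center_iff.1 (h1 hr) x]
  · rw [← hmap]
    exact isCyclic_of_surjective (e.toMonoidHom.subgroupMap (Cfsg.pPrimeCore 2 X))
      (e.toMonoidHom.subgroupMap_surjective _)

/-- centralizers of corresponding elements -/
noncomputable def centEquiv {X Y : Type*} [Group X] [Group Y] (e : X ≃* Y) (v : X) (w : Y) (h : e v = w) :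
    centralizer ({v} : Set X) ≃* centralizer ({w} : Set Y) :=
  (e.subgroupMap (centralizer ({v} : Set X))).trans (MulEquiv.subgroupCongr (by
    subst h
    ext y
    rw [mem_centralizer_singleton_iff]
    constructor
    · rintro ⟨x, hx, rfl⟩
      have hx' := mem_centralizer_singleton_iff.1 hx
      change e x * e v = e v * e x
      rw [← map_mul, ← map_mul, hx']
    · intro hy
      refine ⟨e.symm y, ?_, e.apply_symm_apply y⟩
      change e.symm y ∈ centralizer ({v} : Set X)
      rw [mem_centralizer_singleton_iff]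
      apply e.injective
      rw [map_mul, map_mul, e.apply_symm_apply]
      exact hy))

/-- `O(C_L(v))` is central and cyclic. -/
theorem core {L : Type u} [Group L] [Finite L] [IsSimpleGroup L] (P : Sylow 2 L)
    (hP : Cfsg.IsWreathed (P : Subgroup L))
    (hL : (∃ (F : Type) (_ : Field F) (_ : Fintype F), Odd (Fintype.card F) ∧
        Nonempty (L ≃* Matrix.ProjectiveSpecialLinearGroup (Fin 3) F)) ∨
      (∃ (F : Type) (_ : Field F) (_ : Fintype F) (q : ℕ), Fintype.card F = q ^ 2 ∧ Odd q ∧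
        Nonempty (L ≃* Cfsg.PSU 3 F q)) ∨
      Cfsg.IsM11 L) (v : L) (hv : orderOf v = 2) :
    Cfsg.pPrimeCore 2 (centralizer ({v} : Set L)) ≤ center (centralizer ({v} : Set L)) ∧
      IsCyclic (Cfsg.pPrimeCore 2 (centralizer ({v} : Set L))) := by
  rcases hL with ⟨F, i1, i2, hF, ⟨e⟩⟩ | ⟨F, i1, i2, q, hF, hq, ⟨e⟩⟩ | h
  · have : Finite (Matrix.ProjectiveSpecialLinearGroup (Fin 3) F) := Finite.of_equiv _ e.toEquiv
    have hev : orderOf (e v) = 2 := by rw [MulEquiv.orderOf_eq]; exact hv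
    obtain ⟨Z, hZn, -, hZc, ⟨e'⟩⟩ := Cfsg.Agent.S1219.result hF (e v) hev
    have hZo : Odd (Nat.card Z) := by
      rw [hZc]
      exact (show Odd 3 by decide).of_dvd_nat (Nat.gcd_dvd_right _ _)
    have h1 : Cfsg.pPrimeCore 2 (Matrix.GeneralLinearGroup (Fin 2) F ⧸ Z) ≤ center _ ∧
        IsCyclic (Cfsg.pPrimeCore 2 (Matrix.GeneralLinearGroup (Fin 2) F ⧸ Z)) := by
      refine HFiveA.core_of_surjective (QuotientGroup.mk' Z) (QuotientGroup.mk'_surjective Z) ?_
        (fun R hR hR' => HFiveA.core_GL hF R hR hR')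
      rw [QuotientGroup.ker_mk']
      exact hZo
    exact transport ((centEquiv e v (e v) rfl).trans e').symm h1
  · have : Finite (Cfsg.PSU 3 F q) := Finite.of_equiv _ e.toEquiv
    have hG := Cfsg.Agent.Classification.RTwo.Structure.index_ne_two P (Or.inr hP)
    have hone := Cfsg.Agent.Classification.RTwo.Structure.isConj_of_index P (Or.inr hP) hG
    have h2 : orderOf (e.symm (HFiveB.vv (F := F) hF hq)) = 2 := by
      rw [MulEquiv.orderOf_eq]
      exact HFiveB.orderOf_vv hF hq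
    obtain ⟨g, hg⟩ := isConj_iff.1 (hone v _ hv h2)
    have he : ((MulAut.conj g).trans e) v = HFiveB.vv (F := F) hF hq := by
      change e (g * v * g⁻¹) = _
      rw [hg, e.apply_symm_apply]
    exact transport (centEquiv ((MulAut.conj g).trans e) v _ he).symm (HFiveB.core_PSU hF hq)
  · exfalso
    obtain ⟨n, hn, hc, -⟩ := hP
    have h1 : Nat.card (P : Subgroup L) ∣ Nat.card L := Subgroup.card_subgroup_dvd_card _
    rw [hc, h.2] at h1
    have h2 : 2 ^ 5 ∣ 7920 := (pow_dvd_pow 2 (by omega)).trans h1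
    norm_num at h2

end Cfsg.Agent.GTwoOdd.Core.HFive
end

-- part: GTwoOdd/CentPSU
section
prune_inst 0x41000004000000000000010020000200000000000000000082002000a08000200000000000000008000208000000000000000000000000000000000000400000000000000400000000000000000000000000000000000000000000000000000000000000
set_option linter.all false
open scoped Cfsg.Agent.FastGrp

/-!
# Centralisers of involutions in `PSU₃(q)`, `q` odd

* `exists_conj_SU`: the involutions of `SU₃(q)` are conjugate to `diag(1,-1,-1)`;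
* `exists_conj_vv`: the involutions of `PSU₃(q)` are conjugate;
* `centForm_psu`.
-/

set_option autoImplicit false

namespace Cfsg.Agent.GTwoOdd.CentPSU

open Subgroup Matrix Cfsg.Agent.LieClassical.HermBasic Cfsg.Agent.GTwoOdd.Core.HFiveB

variable {F : Type*} [Field F] [Fintype F] {q : ℕ}

theorem two_ne (hF : Fintype.card F = q ^ 2) (hq : Odd q) : (2 : F) ≠ 0 := by
  apply Ring.two_ne_zero
  intro h
  have h1 := FiniteField.even_card_iff_char_two.mp h
  rw [hF] at h1
  have h2 := Nat.odd_iff.mp (hq.pow (n := 2))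
  omega

/-- a fixed vector of norm one -/
theorem exists_fixed (hF : Fintype.card F = q ^ 2) (hq : Odd q) {g : Cfsg.SU 3 F q} (hg : g * g = 1) :
    ∃ u : Fin 3 → F, g.1.1 *ᵥ u = u ∧ Cfsg.hermForm 3 F q u u = 1 := by
  have h2 := two_ne hF hq
  have hgg : ∀ u, g.1.1 *ᵥ (g.1.1 *ᵥ u) = u := by
    intro u
    have : g.1.1 * g.1.1 = 1 := congrArg (fun x : Cfsg.SU 3 F q => x.1.1) hg
    rw [mulVec_mulVec, this, one_mulVec]
  have hh := (mem_SU_iff g.1).1 g.2
  -- it suffices to find a fixed vector with nonzero norm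
  suffices h : ∃ u : Fin 3 → F, g.1.1 *ᵥ u = u ∧ Cfsg.hermForm 3 F q u u ≠ 0 by
    obtain ⟨u, hu, hu0⟩ := h
    set c := Cfsg.hermForm 3 F q u u with hc
    have hcq : c ^ q = c := herm_self_pow hF u
    obtain ⟨x, hx0, hx⟩ := exists_norm_eq_ne hF (c := c⁻¹) (by rw [inv_pow, hcq]) (inv_ne_zero hu0)
    refine ⟨x • u, by rw [mulVec_smul, hu], ?_⟩
    rw [herm_smul_left, herm_smul_right, ← hc]
    calc x * (x ^ q * c) = (x * x ^ q) * c := by ring
      _ = 1 := by rw [hx, inv_mul_cancel₀ hu0]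
  -- a nonzero fixed vector
  have hfix : ∀ v, g.1.1 *ᵥ (v + g.1.1 *ᵥ v) = v + g.1.1 *ᵥ v := by
    intro v
    rw [mulVec_add, hgg, add_comm]
  obtain ⟨u, hu, hu0⟩ : ∃ u, g.1.1 *ᵥ u = u ∧ u ≠ 0 := by
    by_contra hcon
    push Not at hcon
    have h3 : ∀ v, g.1.1 *ᵥ v = -v := by
      intro v
      exact (neg_eq_of_add_eq_zero_right (hcon _ (hfix v))).symm
    have h4 : g.1.1 = -1 := by
      ext i j
      have h5 := congrFun (h3 (Pi.single j 1)) i
      rw [mulVec_single_one] at h5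
      simpa [Matrix.one_apply, Pi.single_apply] using h5
    have h5 : g.1.1.det = 1 := g.1.2
    rw [h4, det_neg, det_one, Fintype.card_fin] at h5
    apply h2
    have h6 : (-1 : F) = 1 := by
      calc (-1 : F) = (-1) ^ 3 * 1 := by ring
        _ = 1 := h5
    linear_combination -h6
  by_cases huu : Cfsg.hermForm 3 F q u u = 0
  swap
  · exact ⟨u, hu, huu⟩
  obtain ⟨v, hv⟩ := exists_herm_ne_zero hF hu0
  set w := v + g.1.1 *ᵥ v with hw
  have huw : Cfsg.hermForm 3 F q u w = 2 * Cfsg.hermForm 3 F q u v := by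
    rw [hw, herm_add_right hF]
    have : Cfsg.hermForm 3 F q u (g.1.1 *ᵥ v) = Cfsg.hermForm 3 F q u v := by
      have := hh u v
      rw [hu] at this
      exact this
    rw [this]
    ring
  have huw0 : Cfsg.hermForm 3 F q u w ≠ 0 := by
    rw [huw]; exact mul_ne_zero h2 hv
  have hfw : g.1.1 *ᵥ w = w := hfix v
  clear_value w
  by_cases hww : Cfsg.hermForm 3 F q w w = 0
  swap
  · exact ⟨w, hfw, hww⟩
  obtain ⟨x, hx⟩ := exists_trace_ne hF
  set a := Cfsg.hermForm 3 F q u w with ha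
  refine ⟨(x * a⁻¹) • u + w, ?_, ?_⟩
  · rw [mulVec_add, mulVec_smul, hu, hfw]
  · rw [herm_add_left, herm_add_right hF, herm_add_right hF, herm_smul_left, herm_smul_left, herm_smul_right,
      herm_smul_right, huu, hww, herm_swap hF u w, ← ha]
    have e : x * a⁻¹ * ((x * a⁻¹) ^ q * 0) + x * a⁻¹ * a + ((x * a⁻¹) ^ q * a ^ q + 0) = x + x ^ q := by
      rw [← mul_pow]
      have : x * a⁻¹ * a = x := by rw [mul_assoc, inv_mul_cancel₀ huw0, mul_one]
      rw [this]
      ring
    rw [e]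
    exact hx

/-- a matrix of `GU₃` as a product of a matrix of `SU₃` and `diag(c,1,1)` -/
theorem exists_SU_map (hF : Fintype.card F = q ^ 2) {u : Fin 3 → F} (hu : Cfsg.hermForm 3 F q u u = 1) :
    ∃ (x : Cfsg.SU 3 F q) (c : F), c ≠ 0 ∧ x.1.1 *ᵥ (Pi.single 0 1) = c • u := by
  have hq0 : q ≠ 0 := (q_pos hF).ne'
  have h0 : Cfsg.hermForm 3 F q (Pi.single 0 1) (Pi.single 0 1) = 1 := by
    rw [herm_single_left, Pi.single_eq_same, one_pow, mul_one]
  obtain ⟨g, hg⟩ := Cfsg.Agent.LieClassical.GUOrder.exists_gu_map hF h0 hu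
  have hgh := (mem_GU_iff g.1).1 g.2
  set d := g.1.1.det with hd
  have hdd : d ^ (q + 1) = 1 := Cfsg.Agent.LieClassical.GUOrder.det_mul_frob_det hF _ g.2
  have hd0 : d ≠ 0 := by
    intro h
    rw [h, zero_pow (by omega)] at hdd
    exact zero_ne_one hdd
  have hd1 : (d⁻¹) ^ (q + 1) = 1 := by rw [inv_pow, hdd, inv_one]
  let M : Matrix (Fin 3) (Fin 3) F := g.1.1 * blk d⁻¹ 1
  have hMd : M.det = 1 := by
    rw [det_mul, blk_det, det_one, mul_one, ← hd, mul_inv_cancel₀ hd0]
  let N : _root_.Matrix.SpecialLinearGroup (Fin 3) F := ⟨M, hMd⟩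
  have hM : N ∈ Cfsg.SU 3 F q := by
    rw [mem_SU_iff]
    intro a b
    change Cfsg.hermForm 3 F q ((g.1.1 * blk d⁻¹ 1) *ᵥ a) ((g.1.1 * blk d⁻¹ 1) *ᵥ b) = _
    rw [← mulVec_mulVec, ← mulVec_mulVec, hgh, blk_mulVec, blk_mulVec, herm_three, herm_three a b]
    have e1 : ∀ (a : F) (w : Fin 2 → F), ![(![a, w 0, w 1] : Fin 3 → F) 1, (![a, w 0, w 1] : Fin 3 → F) 2] = w := by
      intro a w; ext i; fin_cases i <;> rfl
    rw [e1, e1, one_mulVec, one_mulVec]
    change d⁻¹ * a 0 * (d⁻¹ * b 0) ^ q + _ = _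
    rw [mul_pow]
    rw [pow_succ'] at hd1
    linear_combination (a 0 * b 0 ^ q) * hd1
  refine ⟨⟨N, hM⟩, d⁻¹, inv_ne_zero hd0, ?_⟩
  change (g.1.1 * blk d⁻¹ 1) *ᵥ (Pi.single 0 1) = _
  rw [← mulVec_mulVec]
  have e2 : blk d⁻¹ 1 *ᵥ (Pi.single 0 1) = d⁻¹ • (Pi.single 0 1 : Fin 3 → F) := by
    ext i
    (revert i; simp only [blk, Matrix.mulVec, dotProduct, Pi.single_apply, _root_.Fin.forall_fin_succ, _root_.Matrix.one_apply_eq, Fin.isValue, _root_.ne_eq, _root_.zero_ne_one, _root_.not_false_eq_true, _root_.Matrix.one_apply_ne, _root_.one_ne_zero, _root_.Matrix.of_apply, _root_.Matrix.cons_val', _root_.Matrix.cons_val_fin_one, _root_.mul_ite, _root_.mul_one, _root_.MulZeroClass.mul_zero, _root_.Finset.sum_ite_eq', _root_.Finset.mem_univ, ↓reduceIte, _root_.Matrix.cons_val_zero, _root_.Pi.smul_apply, _root_.smul_eq_mul, _root_.Matrix.cons_val_succ, _root_.Fin.succ_ne_zero, _root_.implies_true, _root_.and_self])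
  rw [e2, mulVec_smul]
  exact congrArg _ hg

/-- a matrix of `SU₃` which fixes `e₀` -/
theorem exists_blk (hF : Fintype.card F = q ^ 2) {g : Cfsg.SU 3 F q}
    (hg : g.1.1 *ᵥ (Pi.single 0 1) = Pi.single 0 1) :
    g.1.1 = blk 1 !![g.1.1 1 1, g.1.1 1 2; g.1.1 2 1, g.1.1 2 2] := by
  have hq0 : q ≠ 0 := (q_pos hF).ne'
  have hh := (mem_SU_iff g.1).1 g.2
  rw [mulVec_single_one] at hg
  have g00 : g.1.1 0 0 = 1 := by have := congrFun hg 0; simpa using this
  have g10 : g.1.1 1 0 = 0 := by have := congrFun hg 1; simpa using this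
  have g20 : g.1.1 2 0 = 0 := by have := congrFun hg 2; simpa using this
  have key : ∀ j : Fin 3, j ≠ 0 → g.1.1 0 j = 0 := by
    intro j hj
    have h1 := hh (Pi.single j 1) (Pi.single 0 1)
    rw [mulVec_single_one, mulVec_single_one, herm_single_left, Pi.single_eq_of_ne hj, zero_pow hq0, mul_zero,
      herm_def, Fin.sum_univ_three] at h1
    simpa only [g00, g10, g20, hq0, _root_.Fin.isValue, _root_.Matrix.col_apply, _root_.one_pow, _root_.mul_one, _root_.ne_eq, _root_.not_false_eq_true, _root_.zero_pow, _root_.MulZeroClass.mul_zero, _root_.add_zero] using h1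
  have g01 := key 1 (by decide)
  have g02 := key 2 (by decide)
  ext i j
  (revert i j; simp only [blk, g00, g10, g20, g01, g02, _root_.Fin.forall_fin_succ, Fin.isValue, _root_.Matrix.of_apply, _root_.Matrix.cons_val', _root_.Matrix.cons_val_zero, _root_.Matrix.cons_val_fin_one, _root_.Matrix.cons_val_one, _root_.Matrix.cons_val_succ, _root_.Fin.succ_zero_eq_one, _root_.Fin.succ_one_eq_two, _root_.IsEmpty.forall_iff, _root_.and_true, _root_.and_self])

/-- involutions of `SU₃(q)` are conjugate to `diag(1,-1,-1)` -/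
theorem exists_conj_SU (hF : Fintype.card F = q ^ 2) (hq : Odd q) {g : Cfsg.SU 3 F q} (hg : g * g = 1) (hg1 : g ≠ 1) :
    ∃ x : Cfsg.SU 3 F q, x * emb hF (negOne hq hF) * x⁻¹ = g := by
  have h2 := two_ne hF hq
  obtain ⟨u, hu, huu⟩ := exists_fixed hF hq hg
  obtain ⟨x, c, hc0, hx⟩ := exists_SU_map hF huu
  refine ⟨x, ?_⟩
  -- `y = x⁻¹ g x` fixes `e₀`
  set y := x⁻¹ * g * x with hy
  have hxy : x * y = g * x := by rw [hy]; group
  have hyy : y * y = 1 := by
    calc y * y = x⁻¹ * (g * g) * x := by rw [hy]; group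
      _ = 1 := by rw [hg]; group
  have hy1 : y ≠ 1 := by
    intro h
    apply hg1
    calc g = x * y * x⁻¹ := by rw [hy]; group
      _ = 1 := by rw [h]; group
  have hfix : y.1.1 *ᵥ (Pi.single 0 1) = Pi.single 0 1 := by
    have h3 : x.1.1 * y.1.1 = g.1.1 * x.1.1 := congrArg (fun z : Cfsg.SU 3 F q => z.1.1) hxy
    have h4 : x.1.1 *ᵥ (y.1.1 *ᵥ (Pi.single 0 1)) = x.1.1 *ᵥ (Pi.single 0 1) := by
      rw [mulVec_mulVec, h3, ← mulVec_mulVec, hx, mulVec_smul, hu]
    have h5 := congrArg (fun z => (x⁻¹).1.1 *ᵥ z) h4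
    have h6 : (x⁻¹).1.1 * x.1.1 = 1 := congrArg (fun z : Cfsg.SU 3 F q => z.1.1) (inv_mul_cancel x)
    simpa only [mulVec_mulVec, ← Matrix.mul_assoc, h6, Matrix.one_mul, one_mulVec] using h5
  have hblk := exists_blk hF hfix
  set B : Matrix (Fin 2) (Fin 2) F := !![y.1.1 1 1, y.1.1 1 2; y.1.1 2 1, y.1.1 2 2] with hB
  have hBd : B.det = 1 := by
    have : y.1.1.det = 1 := y.1.2
    rw [hblk, blk_det, one_mul] at this
    exact this
  have hBB : B * B = 1 := by
    have h3 : y.1.1 * y.1.1 = 1 := congrArg (fun z : Cfsg.SU 3 F q => z.1.1) hyy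
    rw [hblk, blk_mul] at h3
    ext i j
    have a := congrFun (congrFun h3 i.succ) j.succ
    fin_cases i <;> fin_cases j <;> simpa [blk] using a
  -- `B = ± 1`
  have hBs : B = 1 ∨ B = -1 := by
    have a00 := congrFun (congrFun hBB 0) 0
    have a01 := congrFun (congrFun hBB 0) 1
    have a10 := congrFun (congrFun hBB 1) 0
    have a11 := congrFun (congrFun hBB 1) 1
    rw [det_fin_two] at hBd
    simp only [Matrix.mul_apply, Fin.sum_univ_two, _root_.Fin.isValue, _root_.Matrix.one_apply_eq, _root_.ne_eq, _root_.zero_ne_one, _root_.not_false_eq_true, _root_.Matrix.one_apply_ne, _root_.one_ne_zero] at a00 a01 a10 a11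
    set a := B 0 0
    set b := B 0 1
    set c := B 1 0
    set d := B 1 1
    have ht : (a + d) * a = 2 := by linear_combination a00 + hBd
    have htne : a + d ≠ 0 := by
      intro h
      rw [h, zero_mul] at ht
      exact h2 ht.symm
    have hb : b = 0 := by
      have : (a + d) * b = 0 := by linear_combination a01
      exact (mul_eq_zero.1 this).resolve_left htne
    have hc : c = 0 := by
      have : (a + d) * c = 0 := by linear_combination a10
      exact (mul_eq_zero.1 this).resolve_left htne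
    have had : a = d := by
      have : (a + d) * (a - d) = 0 := by linear_combination a00 - a11
      exact sub_eq_zero.1 ((mul_eq_zero.1 this).resolve_left htne)
    have haa : (a - 1) * (a + 1) = 0 := by
      rw [hb, zero_mul, add_zero] at a00
      linear_combination a00
    rcases mul_eq_zero.1 haa with h | h
    · left
      have h1 : a = 1 := by linear_combination h
      ext i j
      fin_cases i <;> fin_cases j
      · exact h1
      · exact hb
      · exact hc
      · exact had.symm.trans h1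
    · right
      have h1 : a = -1 := by linear_combination h
      ext i j
      fin_cases i <;> fin_cases j
      · simpa using h1
      · simpa using hb
      · simpa using hc
      · simpa using had.symm.trans h1
  have hBm : B = -1 := by
    rcases hBs with h | h
    · exfalso
      apply hy1
      apply Subtype.ext
      apply Subtype.ext
      change y.1.1 = 1
      rw [hblk, h, blk_one]
    · exact h
  have hyt : y = emb hF (negOne hq hF) := by
    apply Subtype.ext
    apply Subtype.ext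
    rw [emb_negOne, hblk, hBm]
    ext i j
    (revert i j; simp [blk, _root_.Fin.forall_fin_succ])
  rw [← hyt, hxy]
  group

/-- the involutions of `PSU₃(q)` are conjugate -/
theorem exists_conj_vv (hF : Fintype.card F = q ^ 2) (hq : Odd q) {t : Cfsg.PSU 3 F q} (ht : orderOf t = 2) :
    ∃ x : Cfsg.PSU 3 F q, x * vv hF hq * x⁻¹ = t := by
  obtain ⟨g, rfl⟩ := QuotientGroup.mk_surjective t
  have h1 : (QuotientGroup.mk (g * g) : Cfsg.PSU 3 F q) = 1 := by
    have := pow_orderOf_eq_one (QuotientGroup.mk g : Cfsg.PSU 3 F q)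
    rw [ht, pow_two] at this
    exact this
  rw [QuotientGroup.eq_one_iff] at h1
  set z := g * g with hz
  have h3 := pow_three_of_center hF hq h1
  have hcomm := fun x => mem_center_iff.1 h1 x
  have h4 : (g * z) * (g * z) = 1 := by
    calc (g * z) * (g * z) = g * (z * g) * z := by group
      _ = g * (g * z) * z := by rw [hcomm g]
      _ = z * z * z := by rw [hz]; group
      _ = z ^ 3 := by rw [pow_succ, pow_two]
      _ = 1 := h3
  have hz1 : (QuotientGroup.mk z : Cfsg.PSU 3 F q) = 1 := (QuotientGroup.eq_one_iff _).2 h1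
  have h5 : (QuotientGroup.mk (g * z) : Cfsg.PSU 3 F q) = QuotientGroup.mk g := by
    rw [QuotientGroup.mk_mul, hz1, mul_one]
  have h6 : g * z ≠ 1 := by
    intro h
    rw [h, QuotientGroup.mk_one] at h5
    rw [← h5, orderOf_one] at ht
    norm_num at ht
  obtain ⟨x, hx⟩ := exists_conj_SU hF hq h4 h6
  refine ⟨QuotientGroup.mk x, ?_⟩
  rw [← h5, ← hx, vv, QuotientGroup.mk_mul, QuotientGroup.mk_mul, QuotientGroup.mk_inv]

/-- the order of `C(v)` -/
theorem card_dvd (hF : Fintype.card F = q ^ 2) (hq : Odd q) {p : ℕ} (hp : p.Prime) (hpq : p ∣ Fintype.card F) :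
    p ∣ (centralizer ({vv (F := F) hF hq} : Set (Cfsg.PSU 3 F q))).index := by
  have : Finite (Cfsg.GU 2 F q) := Cfsg.Agent.LieClassical.GUOrder.finite_GU 2
  have hpq' : p ∣ q := hp.dvd_of_dvd_pow (hF ▸ hpq)
  set C := centralizer ({vv (F := F) hF hq} : Set (Cfsg.PSU 3 F q)) with hC
  have h1 := Cfsg.Agent.S0280.result hF 3 (by norm_num)
  have h2 := Cfsg.Agent.S0277.result hF 2
  norm_num only [Finset.prod_range_succ, Nat.even_iff, _root_.Finset.range_one, _root_.Finset.prod_singleton, _root_.pow_one, _root_.ite_true, _root_.ite_false] at h1 h2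
  have h3 : Nat.card C * Nat.card (toC (F := F) hF hq).ker = Nat.card (Cfsg.GU 2 F q) := by
    rw [← Subgroup.card_mul_index (toC (F := F) hF hq).ker, Subgroup.index_ker,
      MonoidHom.range_eq_top.2 (toC_surjective hF hq), Subgroup.card_top, mul_comm]
  have h4 : Nat.card C * C.index = Nat.card (Cfsg.PSU 3 F q) := Subgroup.card_mul_index C
  set K := Nat.card (toC (F := F) hF hq).ker
  have hg : Nat.gcd 3 (q + 1) ∣ q + 1 := Nat.gcd_dvd_right _ _
  set g := Nat.gcd 3 (q + 1)
  have hq2 := two_le hF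
  -- `g (q + 1) index · (q (q + 1) (q² - 1)) = q³ (q + 1) (q² - 1) (q³ + 1) K`
  have key : g * (q + 1) * C.index * (q * ((q + 1) * (q ^ 2 - 1))) =
      q ^ 3 * ((q + 1) * (q ^ 2 - 1) * (q ^ 3 + 1)) * K := by
    rw [← h1, ← h4, ← h2, ← h3]
    ring
  have hpos : 0 < q * ((q + 1) * (q ^ 2 - 1)) := by
    have : 1 < q ^ 2 := Nat.one_lt_pow (by norm_num) (by omega)
    have h0 : 0 < q ^ 2 - 1 := by omega
    (clear * - hq2 h0; positivity)
  have key2 : g * (q + 1) * C.index = q ^ 2 * (q ^ 3 + 1) * K := by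
    apply Nat.eq_of_mul_eq_mul_right hpos
    rw [key]
    ring
  have h5 : p ∣ g * (q + 1) * C.index := by
    rw [key2, mul_assoc]
    exact Dvd.dvd.mul_right (dvd_pow hpq' (by norm_num)) _
  have h6 : ¬ p ∣ q + 1 := by
    intro h
    have h7 : p ∣ 1 := by
      have := Nat.dvd_sub h hpq'
      rwa [Nat.add_sub_cancel_left] at this
    exact hp.one_lt.ne' (Nat.dvd_one.1 h7)
  rcases hp.dvd_mul.1 h5 with h | h
  · rcases hp.dvd_mul.1 h with h | h
    · exact absurd (h.trans hg) h6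
    · exact absurd h h6
  · exact h

theorem centForm_psu (hF : Fintype.card F = q ^ 2) (hq : Odd q) : CentForm (Cfsg.PSU 3 F q) := by
  intro t ht
  obtain ⟨g, rfl⟩ := exists_conj_vv hF hq ht
  obtain ⟨K, _, _, hK⟩ := Cfsg.Agent.S0280.exists_field hF
  obtain ⟨f, j, hj, hdet, hsurj, -⟩ := Cfsg.Agent.Classification.QDW.SUTwoTrace.exists_hom_GU hF hK
  let φ : _root_.Matrix.SpecialLinearGroup (Fin 2) K →* Cfsg.PSU 3 F q :=
    (MulAut.conj g).toMonoidHom.comp
      ((centralizer ({vv (F := F) hF hq} : Set (Cfsg.PSU 3 F q))).subtype.comp ((toC hF hq).comp j))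
  have hφ : ∀ x, φ x = g * (toC hF hq (j x)).1 * g⁻¹ := fun x => rfl
  -- elements of the centraliser
  have hcent : ∀ c, c * (g * vv hF hq * g⁻¹) = g * vv hF hq * g⁻¹ * c →
      ∃ A : Cfsg.GU 2 F q, c = g * (toC hF hq A).1 * g⁻¹ := by
    intro c hc
    have h1 : (g⁻¹ * c * g) ∈ centralizer ({vv (F := F) hF hq} : Set (Cfsg.PSU 3 F q)) := by
      rw [mem_centralizer_singleton_iff]
      calc g⁻¹ * c * g * vv hF hq = g⁻¹ * (c * (g * vv hF hq * g⁻¹)) * g := by group
        _ = _ := by rw [hc]; group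
    obtain ⟨A, hA⟩ := toC_surjective hF hq ⟨_, h1⟩
    refine ⟨A, ?_⟩
    rw [hA]
    change c = g * (g⁻¹ * c * g) * g⁻¹
    group
  have e : ∀ a b : Cfsg.PSU 3 F q, g * a * g⁻¹ * (g * b * g⁻¹) = g * (a * b) * g⁻¹ := fun a b => by group
  have e' : ∀ a b : Cfsg.GU 2 F q, (toC hF hq a).1 * (toC hF hq b).1 = (toC (F := F) hF hq (a * b)).1 := by
    intro a b
    rw [map_mul]
    rfl
  refine ⟨K, inferInstance, inferInstance, φ, ?_, by rw [hK]; exact hq, ?_, ?_, ?_, ?_⟩
  · -- injective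
    rw [injective_iff_map_eq_one]
    intro a ha
    rw [hφ, conj_eq_one_iff] at ha
    have h2 : (QuotientGroup.mk (emb hF (j a)) : Cfsg.PSU 3 F q) = 1 := ha
    rw [QuotientGroup.eq_one_iff] at h2
    have h3 := center_scalar hF hq h2
    have hd : (j a).1.1.det = 1 := by
      have := congrArg (fun u : Fˣ => (u : F)) (hdet a)
      rwa [GeneralLinearGroup.val_det_apply] at this
    have h00 : (emb hF (j a)).1.1 0 0 = 1 := by
      rw [emb_val, hd, inv_one]
      rfl
    rw [h00, one_smul] at h3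
    have h4 : emb hF (j a) = 1 := by
      apply Subtype.ext
      apply Subtype.ext
      exact h3
    apply hj
    apply emb_injective hF
    rw [h4, map_one, map_one]
  · intro x
    have hx := mem_centralizer_singleton_iff.1 (toC hF hq (j x)).2
    rw [hφ, e, e, hx]
  · intro c hc x
    obtain ⟨A, rfl⟩ := hcent c hc
    obtain ⟨y, hy⟩ := hsurj (A * j x * A⁻¹) (by
      rw [Subgroup.coe_mul, Subgroup.coe_mul, map_mul, map_mul, hdet, Subgroup.coe_inv, map_inv]
      simp)
    refine ⟨y, ?_⟩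
    simp only [hφ, hφ, e, e, e', e', hy, inv_mul_cancel_right]
  · intro c d hc hd
    obtain ⟨A, rfl⟩ := hcent c hc
    obtain ⟨B, rfl⟩ := hcent d hd
    obtain ⟨y, hy⟩ := hsurj (A * B * (B * A)⁻¹) (by
      rw [Subgroup.coe_mul, Subgroup.coe_mul, map_mul, map_mul, Subgroup.coe_inv, map_inv, Subgroup.coe_mul, map_mul,
        mul_comm (GeneralLinearGroup.det (B : GL (Fin 2) F))]
      simp)
    refine ⟨y, ?_⟩
    simp only [hφ, e, e, e, e', e', e', hy, inv_mul_cancel_right]
  · intro p hp hpK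
    have h1 : p ∣ Fintype.card F := by
      rw [hF, pow_two, ← hK]
      exact hpK.mul_right _
    have h2 := card_dvd hF hq hp h1
    have h3 : (centralizer ({g * vv (F := F) hF hq * g⁻¹} : Set (Cfsg.PSU 3 F q))).comap
        (MulAut.conj g).toMonoidHom = centralizer ({vv (F := F) hF hq} : Set (Cfsg.PSU 3 F q)) := by
      ext x
      rw [mem_comap, mem_centralizer_singleton_iff, mem_centralizer_singleton_iff]
      change g * x * g⁻¹ * (g * vv hF hq * g⁻¹) = g * vv hF hq * g⁻¹ * (g * x * g⁻¹) ↔ _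
      rw [e, e]
      constructor
      · intro h
        simpa only [_root_.mul_left_inj, _root_.mul_right_inj] using h
      · intro h
        rw [h]
    rw [← h3, Subgroup.index_comap_of_surjective _ (MulAut.conj g).surjective] at h2
    exact h2

end Cfsg.Agent.GTwoOdd.CentPSU

private theorem dce_e790b8e92e78 : _root_.True := by
  try have : _root_.True := by simp only [_root_.Cfsg.Agent.GTwoOdd.Core.HFiveB.vv.congr_simp]
  exact _root_.True.intro
end
end
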