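import Cfsg.Agent.GTwoOdd.Core.Defs
import Cfsg.Agent.Lib.GoldschmidtFusion
import Mathlib
import Cfsg.Agent.GTwoOdd.TrZero
import Cfsg.Agent.GTwoOdd.Torus
set_option linter.all false

-- part: GTwoOdd/Core/ConfBasic
section
/-!
# Elementary facts on `Conf`
-/

set_option autoImplicit false

namespace Cfsg.Agent.GTwoOdd.Core

open Subgroup Cfsg.Agent.Lib.GoldschmidtFusion

namespace Pre

variable {N : Type*} [Group N] {P S0 A W1 V : Subgroup N} (h : Pre P S0 A W1 V)

include h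

theorem V_le_S : V ≤ S0 := h.V_le.trans h.A_le

theorem V_le_P : V ≤ P := h.V_le_S.trans h.S_le

theorem A_le_P : A ≤ P := h.A_le.trans h.S_le

theorem sqV {v : N} (hv : v ∈ V) : v * v = 1 := (h.memV v (h.V_le hv)).1 hv

theorem invV {v : N} (hv : v ∈ V) : v⁻¹ = v := inv_eq_of_mul_eq_one_left (h.sqV hv)

theorem commV {v w : N} (hv : v ∈ V) (hw : w ∈ V) : v * w = w * v :=
  h.comm v (h.V_le hv) w (h.V_le hw)

/-- `S0` centralises `V` -/
theorem S_cent {y v : N} (hy : y ∈ S0) (hv : v ∈ V) : y * v = v * y := by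
  by_cases hyA : y ∈ A
  · exact h.comm y hyA v (h.V_le hv)
  · have h1 := h.inv y hy hyA v (h.V_le hv)
    rw [h.invV hv] at h1
    exact mul_inv_eq_iff_eq_mul.1 h1

theorem S_conj {y v : N} (hy : y ∈ S0) (hv : v ∈ V) : y * v * y⁻¹ = v := by
  rw [h.S_cent hy hv]; group

/-- an involution of `S0` lies in `V` or outside `A` -/
theorem mem_V_of_A {a : N} (ha : a ∈ A) (h2 : a * a = 1) : a ∈ V := (h.memV a ha).2 h2

theorem exists_ne : ∃ v ∈ V, v ≠ 1 := by
  by_contra hc
  push Not at hc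
  have h1 : V = ⊥ := (Subgroup.eq_bot_iff_forall V).2 hc
  have h2 := h.cardV
  rw [h1, Subgroup.card_bot] at h2
  norm_num at h2

theorem exists_ne' (a : N) : ∃ v ∈ V, v ≠ 1 ∧ v ≠ a := by
  classical
  by_contra hc
  push Not at hc
  have h1 : (V : Set N) ⊆ {1, a} := by
    intro v hv
    by_cases h2 : v = 1
    · simp [h2]
    · simp [hc v hv h2]
  have h2 : (V : Set N).ncard ≤ ({1, a} : Set N).ncard := Set.ncard_le_ncard h1 (by simp)
  have h3 : (V : Set N).ncard = 4 := by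
    rw [← h.cardV]; rfl
  have h4 : ({1, a} : Set N).ncard ≤ 2 := by
    refine (Set.ncard_insert_le _ _).trans ?_
    simp
  omega

theorem V_elim {a b : N} (ha : a ∈ V) (hb : b ∈ V) (ha1 : a ≠ 1) (hb1 : b ≠ 1) (hab : a ≠ b) {v : N}
    (hv : v ∈ V) : v = 1 ∨ v = a ∨ v = b ∨ v = a * b := by
  classical
  by_contra hc
  push Not at hc
  obtain ⟨h1, h2, h3, h4⟩ := hc
  have : Finite V := Nat.finite_of_card_ne_zero (by rw [h.cardV]; norm_num)
  have hab1 : a * b ≠ 1 := by
    intro h5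
    apply hab
    have := eq_inv_of_mul_eq_one_left h5
    rwa [h.invV hb] at this
  have haab : a * b ≠ a := by
    intro h5; exact hb1 (by simpa using h5)
  have hbab : a * b ≠ b := by
    intro h5; exact ha1 (by simpa using h5)
  have h5 : ({1, a, b, a * b, v} : Set N) ⊆ (V : Set N) := by
    intro x hx
    simp only [Set.mem_insert_iff, Set.mem_singleton_iff] at hx
    rcases hx with rfl | rfl | rfl | rfl | rfl
    · exact V.one_mem
    · exact ha
    · exact hb
    · exact V.mul_mem ha hb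
    · exact hv
  have h6 : ({1, a, b, a * b, v} : Set N).ncard ≤ (V : Set N).ncard :=
    Set.ncard_le_ncard h5 (Set.toFinite _)
  have h7 : (V : Set N).ncard = 4 := by
    rw [← h.cardV]; rfl
  have h8 : ({1, a, b, a * b, v} : Set N).ncard = 5 := by
    rw [Set.ncard_insert_of_notMem, Set.ncard_insert_of_notMem, Set.ncard_insert_of_notMem,
      Set.ncard_pair]
    · exact h4.symm
    · simp only [Set.mem_insert_iff, Set.mem_singleton_iff, not_or]
      exact ⟨hbab.symm, h3.symm⟩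
    · simp only [Set.mem_insert_iff, Set.mem_singleton_iff, not_or]
      exact ⟨hab, haab.symm, h2.symm⟩
    · simp only [Set.mem_insert_iff, Set.mem_singleton_iff, not_or]
      exact ⟨ha1.symm, hb1.symm, hab1.symm, h1.symm⟩
  omega

/-- an element normalising `S0` normalises `A` -/
theorem conjA {x : N} (hx : ∀ y ∈ S0, x * y * x⁻¹ ∈ S0) {a : N} (ha : a ∈ A) : x * a * x⁻¹ ∈ A := by
  have key : ∀ b ∈ A, b * b ≠ 1 → x * b * x⁻¹ ∈ A := by
    intro b hb hb2
    by_contra hc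
    have h1 := h.inv2 _ (hx b (h.A_le hb)) hc
    apply hb2
    have h2 : x * b * x⁻¹ * (x * b * x⁻¹) = x * (b * b) * x⁻¹ := by group
    rw [h2] at h1
    have h3 : x * (b * b) = x := by
      have := mul_inv_eq_one.1 h1
      exact this
    simpa using h3
  by_cases ha2 : a * a = 1
  · obtain ⟨c, hc, hc2⟩ := h.four
    have h1 : (c⁻¹ * a) * (c⁻¹ * a) ≠ 1 := by
      intro h2
      apply hc2
      have h3 : (c⁻¹ * a) * (c⁻¹ * a) = (c * c)⁻¹ * (a * a) := by
        have h4 := h.comm c⁻¹ (A.inv_mem hc) a ha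
        calc (c⁻¹ * a) * (c⁻¹ * a) = c⁻¹ * (a * c⁻¹) * a := by group
          _ = c⁻¹ * (c⁻¹ * a) * a := by rw [h4]
          _ = (c * c)⁻¹ * (a * a) := by group
      rw [h3, ha2, mul_one] at h2
      exact inv_eq_one.1 h2
    have h2 := A.mul_mem (key c hc hc2) (key (c⁻¹ * a) (A.mul_mem (A.inv_mem hc) ha) h1)
    have h3 : x * c * x⁻¹ * (x * (c⁻¹ * a) * x⁻¹) = x * a * x⁻¹ := by group
    rwa [h3] at h2
  · exact key a ha ha2

/-- an element normalising `S0` normalises `V` -/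
theorem conjV {x : N} (hx : ∀ y ∈ S0, x * y * x⁻¹ ∈ S0) {v : N} (hv : v ∈ V) : x * v * x⁻¹ ∈ V := by
  apply h.mem_V_of_A (h.conjA hx (h.V_le hv))
  calc x * v * x⁻¹ * (x * v * x⁻¹) = x * (v * v) * x⁻¹ := by group
    _ = 1 := by rw [h.sqV hv]; group

/-- `P` normalises `S0` -/
theorem P_norm {x : N} (hx : x ∈ P) : ∀ y ∈ S0, x * y * x⁻¹ ∈ S0 := by
  intro y hy
  by_cases hxS : x ∈ S0
  · exact S0.mul_mem (S0.mul_mem hxS hy) (S0.inv_mem hxS)
  · refine h.idxS _ (P.mul_mem hx (h.S_le hy)) ?_ _ (P.inv_mem hx) ?_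
    · intro h1
      apply hxS
      have := S0.mul_mem h1 (S0.inv_mem hy)
      simpa using this
    · intro h1
      apply hxS
      simpa using S0.inv_mem h1

/-- the element `t` : central in `P` -/
theorem exists_t : ∃ t ∈ V, t ≠ 1 ∧ ∀ x ∈ P, x * t = t * x := by
  by_cases hPS : ∃ x ∈ P, x ∉ S0
  · obtain ⟨x0, hx0, hx0S⟩ := hPS
    have h1 : ∃ s ∈ V, x0 * s ≠ s * x0 := by
      by_contra hc
      push Not at hc
      exact hx0S (h.cent x0 hx0 hc)
    obtain ⟨s, hs, hxs⟩ := h1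
    set s' := x0 * s * x0⁻¹ with hs'
    have hs'V : s' ∈ V := h.conjV (h.P_norm hx0) hs
    have hne : s' ≠ s := by
      intro h2
      exact hxs (mul_inv_eq_iff_eq_mul.1 h2)
    have hx2 : x0 * x0 ∈ S0 := h.idxS x0 hx0 hx0S x0 hx0 hx0S
    have h2 : x0 * s' * x0⁻¹ = s := by
      have h3 := h.S_conj hx2 hs
      calc x0 * s' * x0⁻¹ = x0 * x0 * s * (x0 * x0)⁻¹ := by rw [hs']; group
        _ = s := h3
    refine ⟨s * s', V.mul_mem hs hs'V, ?_, ?_⟩
    · intro h3
      apply hne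
      have := eq_inv_of_mul_eq_one_right h3
      rw [this, h.invV hs]
    · have h4 : x0 * (s * s') * x0⁻¹ = s * s' := by
        calc x0 * (s * s') * x0⁻¹ = (x0 * s * x0⁻¹) * (x0 * s' * x0⁻¹) := by group
          _ = s' * s := by rw [h2]
          _ = s * s' := h.commV hs'V hs
      intro x hx
      by_cases hxS : x ∈ S0
      · exact h.S_cent hxS (V.mul_mem hs hs'V)
      · have h5 : x * x0⁻¹ ∈ S0 := by
          refine h.idxS x hx hxS _ (P.inv_mem hx0) ?_
          intro h6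
          exact hx0S (by simpa using S0.inv_mem h6)
        have h6 := h.S_cent h5 (V.mul_mem hs hs'V)
        have h7 : x0 * (s * s') = s * s' * x0 := mul_inv_eq_iff_eq_mul.1 h4
        calc x * (s * s') = (x * x0⁻¹) * (x0 * (s * s')) := by group
          _ = (x * x0⁻¹) * (s * s' * x0) := by rw [h7]
          _ = ((x * x0⁻¹) * (s * s')) * x0 := by group
          _ = (s * s' * (x * x0⁻¹)) * x0 := by rw [h6]
          _ = s * s' * x := by group
  · push Not at hPS
    obtain ⟨v, hv, hv1⟩ := h.exists_ne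
    exact ⟨v, hv, hv1, fun x hx => h.S_cent (hPS x hx) hv⟩

/-- an element of `P` outside `S0` moves every element of `V` different from `1`, `t` -/
theorem moves {t : N} (ht : t ∈ V) (ht1 : t ≠ 1) (htP : ∀ x ∈ P, x * t = t * x) {x : N} (hx : x ∈ P)
    (hxS : x ∉ S0) {s : N} (hs : s ∈ V) (hs1 : s ≠ 1) (hst : s ≠ t) : x * s * x⁻¹ = s * t := by
  have h1 : x * s * x⁻¹ ∈ V := h.conjV (h.P_norm hx) hs
  have h2 : x * t * x⁻¹ = t := by rw [htP x hx]; group
  rcases h.V_elim hs ht hs1 ht1 hst h1 with h3 | h3 | h3 | h3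
  · exfalso
    apply hs1
    have := mul_inv_eq_one.1 h3
    simpa using this
  · exfalso
    apply hxS
    apply h.cent x hx
    intro v hv
    have h4 : x * s = s * x := mul_inv_eq_iff_eq_mul.1 h3
    rcases h.V_elim hs ht hs1 ht1 hst hv with h5 | h5 | h5 | h5
    · rw [h5]; group
    · rw [h5, h4]
    · rw [h5, htP x hx]
    · rw [h5, ← mul_assoc, h4, mul_assoc, htP x hx, mul_assoc]
  · exfalso
    apply hst
    have h4 : x * s * x⁻¹ = x * t * x⁻¹ := by rw [h3, h2]
    exact mul_left_cancel (mul_right_cancel h4)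
  · exact h3

/-- an element of `V` commuting with an element of `P` outside `S0` is `1` or `t` -/
theorem eq_of_comm {t : N} (ht : t ∈ V) (ht1 : t ≠ 1) (htP : ∀ x ∈ P, x * t = t * x) {x : N} (hx : x ∈ P)
    (hxS : x ∉ S0) {s : N} (hs : s ∈ V) (hxs : x * s = s * x) : s = 1 ∨ s = t := by
  by_contra hc
  push Not at hc
  have h1 := h.moves ht ht1 htP hx hxS hs hc.1 hc.2
  rw [hxs] at h1
  apply ht1
  have h2 : s * x * x⁻¹ = s := by group
  rw [h2] at h1
  have h3 : s * 1 = s * t := by rw [mul_one]; exact h1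
  exact (mul_left_cancel h3).symm

/-- conjugation by `c ∈ A` of an element outside `A` -/
theorem conj_root {c u : N} (hc : c ∈ A) (hu : u ∈ S0) (huA : u ∉ A) : c * u * c⁻¹ = c * c * u := by
  have h1 := h.inv u hu huA c⁻¹ (A.inv_mem hc)
  rw [inv_inv] at h1
  have h2 : u * c⁻¹ = c * u := mul_inv_eq_iff_eq_mul.1 h1
  rw [mul_assoc, h2, mul_assoc]

end Pre

end Cfsg.Agent.GTwoOdd.Core
end

-- part: GTwoOdd/Core/OddTwo
section
/-!
# Groups of odd order acting on `SL(2,F)`: the axis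

`exists_axis`: a nontrivial `r`-group of conjugations of `SL(2,F)` (`r` odd) has an axis `z ≠ 0`, a
matrix of trace `0` which commutes with it, and every matrix which normalises the group
normalises the line of `z`.
-/

set_option autoImplicit false

namespace Cfsg.Agent.GTwoOdd

open Matrix

variable {F : Type*} [Field F]

section mat

variable (h2 : (2 : F) ≠ 0)
include h2

/-- the centraliser of a nonzero matrix of trace `0` -/
theorem cent_form' {D A : M2 F} (hD : D ≠ 0) (ht : D.trace = 0) (h : A * D = D * A) :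
    ∃ a b : F, A = a • (1 : M2 F) + b • D := by
  have hd := trace_zero_iff.1 ht
  rw [m2_eq_iff] at h
  simp only [m2_mul_00, m2_mul_01, m2_mul_10, m2_mul_11] at h
  obtain ⟨e1, e2, e3, e4⟩ := h
  have key : ∃ b : F, A 0 1 = b * D 0 1 ∧ A 1 0 = b * D 1 0 ∧ A 0 0 - A 1 1 = 2 * b * D 0 0 := by
    by_cases hq : D 0 1 = 0
    · by_cases hr : D 1 0 = 0
      · have hp : D 0 0 ≠ 0 := by
          intro hp
          apply hD
          apply m2_ext
          · simpa using hp
          · simpa using hq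
          · simpa using hr
          · rw [hd, hp]; simp
        refine ⟨(A 0 0 - A 1 1) / (2 * D 0 0), ?_, ?_, ?_⟩
        · rw [hq, mul_zero]
          rw [hq, hd] at e2
          have : 2 * D 0 0 * A 0 1 = 0 := by linear_combination -e2
          simpa [h2, hp] using this
        · rw [hr, mul_zero]
          rw [hr, hd] at e3
          have : 2 * D 0 0 * A 1 0 = 0 := by linear_combination e3
          simpa [h2, hp] using this
        · field_simp
      · refine ⟨A 1 0 / D 1 0, ?_, ?_, ?_⟩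
        · rw [div_mul_eq_mul_div, eq_div_iff hr]
          linear_combination e1
        · field_simp
        · rw [hd] at e3
          field_simp
          linear_combination -e3
    · refine ⟨A 0 1 / D 0 1, ?_, ?_, ?_⟩
      · field_simp
      · rw [div_mul_eq_mul_div, eq_div_iff hq]
        linear_combination -e1
      · rw [hd] at e2
        field_simp
        linear_combination e2
  obtain ⟨b, hb1, hb2, hb3⟩ := key
  refine ⟨A 0 0 - b * D 0 0, b, m2_ext ?_ ?_ ?_ ?_⟩
  · simp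
  · simp [hb1]
  · simp [hb2]
  · simp [hd]
    linear_combination -hb3

theorem cent_comm' {D A B : M2 F} (hD : D ≠ 0) (ht : D.trace = 0) (hA : A * D = D * A) (hB : B * D = D * B) :
    A * B = B * A := by
  obtain ⟨a, b, rfl⟩ := cent_form' h2 hD ht hA
  obtain ⟨c, d, rfl⟩ := cent_form' h2 hD ht hB
  simp only [add_mul, mul_add, Matrix.smul_mul, Matrix.mul_smul, one_mul, mul_one, smul_smul]
  rw [mul_comm a c, mul_comm a d, mul_comm b c, mul_comm b d]
  abel

/-- a matrix of trace `0` commuting with a nonzero matrix of trace `0` is proportional to it -/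
theorem prop_of_comm {D A : M2 F} (hD : D ≠ 0) (ht : D.trace = 0) (hA : A.trace = 0) (h : A * D = D * A) :
    ∃ b : F, A = b • D := by
  obtain ⟨a, b, rfl⟩ := cent_form' h2 hD ht h
  rw [cent_trace ht] at hA
  rcases mul_eq_zero.1 hA with h3 | h3
  · exact absurd h3 h2
  · exact ⟨b, by rw [h3, zero_smul, zero_add]⟩

/-- the matrix `A - tr A / 2` of trace `0` -/
theorem exists_trace_zero (A : M2 F) : ∃ (a : F) (z : M2 F), z.trace = 0 ∧ A = a • (1 : M2 F) + z := by
  refine ⟨A.trace / 2, A - (A.trace / 2) • (1 : M2 F), ?_, by abel⟩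
  rw [Matrix.trace_sub, Matrix.trace_smul, Matrix.trace_one, Fintype.card_fin]
  simp
  field_simp
  ring

end mat

/-- if `D² = c` and `D z = a z D` with `z ≠ 0` then `a = ± 1` -/
theorem sign_of_sq {D z : M2 F} {a c : F} (hc : c ≠ 0) (hD : D * D = c • (1 : M2 F)) (hz : z ≠ 0)
    (h : D * z = a • (z * D)) : a = 1 ∨ a = -1 := by
  have h1 : D * (D * z) = c • z := by
    rw [← mul_assoc, hD]; simp
  have h2 : D * (D * z) = (a * a * c) • z := by
    rw [h, Matrix.mul_smul, ← mul_assoc, h, Matrix.smul_mul, mul_assoc, hD]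
    simp [smul_smul, mul_assoc]
  have h3 : (c * (a * a - 1)) • z = 0 := by
    have : (a * a * c) • z - c • z = 0 := by rw [← h1, ← h2, sub_self]
    rw [← sub_smul] at this
    rw [← this]
    congr 1
    ring
  rcases smul_eq_zero.1 h3 with h4 | h4
  · rcases mul_eq_zero.1 h4 with h5 | h5
    · exact absurd h5 hc
    · exact mul_self_eq_one_iff.1 (by linear_combination h5)
  · exact absurd h4 hz

/-- a line of matrices of trace `0` normalised by two anticommuting matrices is nondegenerate -/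
theorem det_ne_zero_of_anti (h2 : (2 : F) ≠ 0) {D n z : M2 F} (hD : D.det ≠ 0) (hn : n.det ≠ 0)
    (hnD : n * D = -(D * n)) (hz : z ≠ 0) (hzt : z.trace = 0) {a b : F} (ha : D * z = a • (z * D))
    (hb : n * z = b • (z * n)) : z.det ≠ 0 := by
  have htn : n.trace = 0 := trace_of_anti h2 hD hnD
  have htD : D.trace = 0 := trace_of_anti h2 hn (by rw [hnD, neg_neg])
  have hD2 := m2_sq_of_trace htD
  have hn2 := m2_sq_of_trace htn
  have hD0 : D ≠ 0 := by rintro rfl; simp at hD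
  have hn0 : n ≠ 0 := by rintro rfl; simp at hn
  have hdn : (n * D).det ≠ 0 := by rw [Matrix.det_mul]; exact mul_ne_zero hn hD
  have key : ∀ {X : M2 F}, X.det ≠ 0 → X.trace = 0 → z * X = X * z → z.det ≠ 0 := by
    intro X hX hXt h
    have hX0 : X ≠ 0 := by rintro rfl; simp at hX
    obtain ⟨b, rfl⟩ := prop_of_comm h2 hX0 hXt hzt h
    rw [det_smul2]
    have hb : b ≠ 0 := by rintro rfl; simp at hz
    exact mul_ne_zero (mul_ne_zero hb hb) hX
  rcases sign_of_sq (neg_ne_zero.2 hD) hD2 hz ha with rfl | rfl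
  · exact key hD htD (by rw [ha, one_smul])
  · rcases sign_of_sq (neg_ne_zero.2 hn) hn2 hz hb with rfl | rfl
    · exact key hn htn (by rw [hb, one_smul])
    · refine key (X := n * D) hdn ?_ ?_
      · have := trace_of_anti h2 (N := n * D) (D := D) hD ?_
        · exact this
        · rw [hnD, neg_mul, mul_assoc D n D, hnD]
      · rw [neg_one_smul] at ha hb
        have h5 : n * D * z = z * (n * D) := by
          rw [mul_assoc, ha, mul_neg, ← mul_assoc, hb, neg_mul, neg_neg, mul_assoc]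
        exact h5.symm

/-- **One coordinate, cyclic case**: `D = h²` centralises the line of `z` -/
theorem comm_of_sq (h2 : (2 : F) ≠ 0) {D n z h : M2 F} (hD : D.det ≠ 0) (hn : n.det ≠ 0)
    (hnD : n * D = -(D * n)) (hz : z ≠ 0) (hzt : z.trace = 0) {b c k : F} (hb : n * z = b • (z * n))
    (hh : h * h = k • D) (hk : k ≠ 0) (hc : h * z = c • (z * h)) : D * z = z * D := by
  have h1 : k • (D * z) = (k * (c * c)) • (z * D) := by
    rw [← Matrix.smul_mul, ← hh, mul_assoc, hc, Matrix.mul_smul, ← mul_assoc, hc, Matrix.smul_mul, mul_assoc,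
      hh, Matrix.mul_smul, smul_smul, smul_smul]
    congr 1
    ring
  have ha : D * z = (c * c) • (z * D) := by
    have := congrArg (fun X => k⁻¹ • X) h1
    simpa [smul_smul, inv_mul_cancel₀ hk, ← mul_assoc] using this
  have hdz := det_ne_zero_of_anti h2 hD hn hnD hz hzt ha hb
  have hdh : h.det ≠ 0 := by
    intro h0
    have := congrArg Matrix.det hh
    rw [Matrix.det_mul, h0, det_smul2] at this
    have h3 : k * k * D.det ≠ 0 := mul_ne_zero (mul_ne_zero hk hk) hD
    apply h3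
    rw [← this]; ring
  have h3 : c * c = 1 := by
    have := congrArg Matrix.det hc
    rw [Matrix.det_mul, det_smul2, Matrix.det_mul] at this
    have h4 : h.det * z.det * (c * c - 1) = 0 := by linear_combination -this
    rcases mul_eq_zero.1 h4 with h5 | h5
    · exact absurd h5 (mul_ne_zero hdh hdz)
    · linear_combination h5
  rw [ha, h3, one_smul]

/-- **One coordinate, four-group case**: one of `D`, `n`, `nD` centralises the line of `z` -/
theorem comm_of_four (h2 : (2 : F) ≠ 0) {D n z : M2 F} (hD : D.det ≠ 0) (hn : n.det ≠ 0)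
    (hnD : n * D = -(D * n)) (hz : z ≠ 0) {a b : F} (ha : D * z = a • (z * D))
    (hb : n * z = b • (z * n)) : D * z = z * D ∨ n * z = z * n ∨ (n * D) * z = z * (n * D) := by
  have htn : n.trace = 0 := trace_of_anti h2 hD hnD
  have htD : D.trace = 0 := trace_of_anti h2 hn (by rw [hnD, neg_neg])
  have hD2 := m2_sq_of_trace htD
  have hn2 := m2_sq_of_trace htn
  rcases sign_of_sq (neg_ne_zero.2 hD) hD2 hz ha with rfl | rfl
  · exact Or.inl (by rw [ha, one_smul])
  · rcases sign_of_sq (neg_ne_zero.2 hn) hn2 hz hb with rfl | rfl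
    · exact Or.inr (Or.inl (by rw [hb, one_smul]))
    · refine Or.inr (Or.inr ?_)
      rw [neg_one_smul] at ha hb
      rw [mul_assoc, ha, mul_neg, ← mul_assoc, hb, neg_mul, neg_neg, mul_assoc]

section axis

variable {G : Type*} [Group G] {e : SL2 F →* G}

/-- `c` centralises the image of `e` -/
def Triv (e : SL2 F →* G) (c : G) : Prop := ∀ x, c * e x = e x * c

theorem Acts.triv_iff (he : Function.Injective e) {c : G} {A : M2 F} (h : Acts e c A) :
    Triv e c ↔ ∃ a : F, A = a • (1 : M2 F) := by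
  constructor
  · intro ht
    obtain ⟨a, ha, rfl⟩ := (Acts.of_comm ht).proportional he h
    exact ⟨a, rfl⟩
  · rintro ⟨a, rfl⟩
    exact h.comm_of_one

theorem Acts.det_ne' {c : G} {A : M2 F} (h : Acts e c A) : A.det ≠ 0 := h.1

/-- an element which acts as a matrix normalises the elements which act trivially -/
theorem Triv.conj {c k : G} {A : M2 F} (h : Acts e c A) (hk : Triv e k) : Triv e (c * k * c⁻¹) := by
  intro y
  obtain ⟨x, hx⟩ := exists_cj' h.1 y
  have h1 := h.2 x y hx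
  have h3 : c⁻¹ * e y = e x * c⁻¹ := by
    calc c⁻¹ * e y = c⁻¹ * (e y * c) * c⁻¹ := by group
      _ = e x * c⁻¹ := by rw [← h1]; group
  calc c * k * c⁻¹ * e y = c * k * (c⁻¹ * e y) := by group
    _ = c * (k * e x) * c⁻¹ := by rw [h3]; group
    _ = (c * e x) * k * c⁻¹ := by rw [hk x]; group
    _ = e y * (c * k * c⁻¹) := by rw [h1]; group

theorem Triv.mul {c d : G} (h : Triv e c) (k : Triv e d) : Triv e (c * d) := by
  intro x
  rw [mul_assoc, k x, ← mul_assoc, h x, mul_assoc]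

theorem Triv.inv {c : G} (h : Triv e c) : Triv e c⁻¹ := by
  intro x
  calc c⁻¹ * e x = c⁻¹ * (e x * c) * c⁻¹ := by group
    _ = e x * c⁻¹ := by rw [← h x]; group

theorem Triv.one : Triv e (1 : G) := fun x => by rw [one_mul, mul_one]

/-- **The axis** of an `r`-group of conjugations of `SL(2,F)`, `r` odd. -/
theorem exists_axis (h2 : (2 : F) ≠ 0) (he : Function.Injective e) {r : ℕ} (hr : r.Prime) (hr2 : r ≠ 2)
    (R : Subgroup G) [Finite R] (hR : IsPGroup r R) (hA : ∀ c ∈ R, ∃ A, Acts e c A)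
    (hnt : ∃ c ∈ R, ¬ Triv e c) :
    ∃ z : M2 F, z ≠ 0 ∧ z.trace = 0 ∧ (∀ c ∈ R, ∀ A, Acts e c A → ∃ a b : F, A = a • (1 : M2 F) + b • z) ∧
      ∀ (h : G) (H : M2 F), (∀ c ∈ R, h * c * h⁻¹ ∈ R) → Acts e h H → ∃ c : F, H * z = c • (z * H) := by
  have : Fact r.Prime := ⟨hr⟩
  let K : Subgroup R :=
    { carrier := {c | Triv e (c : G)}
      mul_mem' := fun {a b} ha hb => by
        have := Triv.mul (e := e) (show Triv e (a : G) from ha) (show Triv e (b : G) from hb)
        exact this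
      one_mem' := Triv.one
      inv_mem' := fun {a} ha => Triv.inv (show Triv e (a : G) from ha) }
  have hK : K.Normal := ⟨fun k hk c => by
    obtain ⟨A, hA'⟩ := hA c c.2
    exact Triv.conj hA' (show Triv e (k : G) from hk)⟩
  have hQ : IsPGroup r (R ⧸ K) := hR.to_quotient K
  have hKtop : K ≠ ⊤ := by
    obtain ⟨c, hc, hc'⟩ := hnt
    intro h
    apply hc'
    have : (⟨c, hc⟩ : R) ∈ K := by rw [h]; trivial
    exact this
  have hQn : Nontrivial (R ⧸ K) := by
    rw [QuotientGroup.nontrivial_iff]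
    exact hKtop
  have hcn := hQ.center_nontrivial
  obtain ⟨⟨q, hq⟩, hq1⟩ := exists_ne (1 : Subgroup.center (R ⧸ K))
  obtain ⟨c0, rfl⟩ := QuotientGroup.mk_surjective q
  have hc0 : ¬ Triv e (c0 : G) := by
    intro h
    apply hq1
    apply Subtype.ext
    exact (QuotientGroup.eq_one_iff c0).2 h
  have hcomm : ∀ c : R, Triv e (((c * c0) * (c0 * c)⁻¹ : R) : G) := by
    intro c
    have h1 := Subgroup.mem_center_iff.1 hq (c : R ⧸ K)
    have h3 : ((c * c0 : R) : R ⧸ K) = ((c0 * c : R) : R ⧸ K) := h1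
    have h4 : (((c * c0) * (c0 * c)⁻¹ : R) : R ⧸ K) = 1 := by
      rw [QuotientGroup.mk_mul, h3, ← QuotientGroup.mk_mul, mul_inv_cancel, QuotientGroup.mk_one]
    exact (QuotientGroup.eq_one_iff _).1 h4
  obtain ⟨A0, hA0⟩ := hA c0 c0.2
  obtain ⟨a0, z, hz, rfl⟩ := exists_trace_zero h2 A0
  have hz0 : z ≠ 0 := by
    rintro rfl
    apply hc0
    rw [hA0.triv_iff he]
    exact ⟨a0, by rw [add_zero]⟩
  -- `c0` is not of order `2` modulo `K`
  have hsq : ¬ Triv e ((c0 : G) * c0) := by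
    intro h
    apply hc0
    obtain ⟨k, hk⟩ := hR c0
    have hodd : Odd (r ^ k) := (hr.odd_of_ne_two hr2).pow
    obtain ⟨m, hm⟩ := hodd
    have h3 : ((c0 : G) * c0) ^ m * c0 = 1 := by
      rw [← pow_two, ← pow_mul, ← pow_succ, ← hm]
      exact_mod_cast congrArg Subtype.val hk
    have h4 : ∀ m : ℕ, Triv e (((c0 : G) * c0) ^ m) := by
      intro m
      induction m with
      | zero => rw [pow_zero]; exact Triv.one
      | succ m ih => rw [pow_succ]; exact ih.mul h
    have h5 : (c0 : G) = (((c0 : G) * c0) ^ m)⁻¹ := by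
      rw [eq_inv_iff_mul_eq_one, ← h3]
      have : Commute (c0 : G) (((c0 : G) * c0) ^ m) :=
        ((Commute.refl (c0 : G)).mul_right (Commute.refl _)).pow_right m
      exact this
    rw [h5]
    exact (h4 m).inv
  have hcz : ∀ c ∈ R, ∀ A, Acts e c A → A * z = z * A := by
    intro c hc A hcA
    have h1 : Acts e (c * c0) (A * (a0 • (1 : M2 F) + z)) := hcA.mul hA0
    have h3 : Acts e ((c0 : G) * c) ((a0 • (1 : M2 F) + z) * A) := hA0.mul hcA
    have h4 := hcomm ⟨c, hc⟩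
    have h5 : Acts e (c * c0) ((1 : M2 F) * ((a0 • (1 : M2 F) + z) * A)) := by
      have h6 := (Acts.of_comm h4).mul h3
      have h7 : ((((⟨c, hc⟩ : R) * c0) * (c0 * (⟨c, hc⟩ : R))⁻¹ : R) : G) * ((c0 : G) * c) = c * c0 := by
        rw [Subgroup.coe_mul, Subgroup.coe_inv, Subgroup.coe_mul, Subgroup.coe_mul]
        group
      rw [h7] at h6
      exact h6
    rw [one_mul] at h5
    obtain ⟨u, hu, hu'⟩ := h5.proportional he h1
    have hdet : u * u = 1 := by
      have := congrArg Matrix.det hu'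
      rw [Matrix.det_mul, det_smul2, Matrix.det_mul] at this
      have h8 : A.det * (a0 • (1 : M2 F) + z).det * (u * u - 1) = 0 := by linear_combination -this
      rcases mul_eq_zero.1 h8 with h9 | h9
      · exact absurd h9 (mul_ne_zero hcA.1 hA0.1)
      · linear_combination h9
    rcases mul_self_eq_one_iff.1 hdet with rfl | rfl
    · rw [one_smul] at hu'
      rw [mul_add, add_mul, Matrix.mul_smul, Matrix.smul_mul, mul_one, one_mul] at hu'
      exact add_left_cancel hu'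
    · exfalso
      apply hsq
      rw [neg_one_smul] at hu'
      have htr := trace_of_anti h2 (N := a0 • (1 : M2 F) + z) (D := A) hcA.1 (by rw [hu', neg_neg])
      have h9 := hA0.mul hA0
      rw [m2_sq_of_trace htr] at h9
      rw [h9.triv_iff he]
      exact ⟨_, rfl⟩
  refine ⟨z, hz0, hz, fun c hc A hcA => cent_form' h2 hz0 hz (hcz c hc A hcA), ?_⟩
  intro h H hn hH
  have h1 : Acts e (h * c0 * h⁻¹) (H * (a0 • (1 : M2 F) + z) * H.adjugate) := (hH.mul hA0).mul hH.inv
  have h3 := hcz _ (hn c0 c0.2) _ h1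
  have h4 : H * (a0 • (1 : M2 F) + z) * H.adjugate = (a0 * H.det) • (1 : M2 F) + H * z * H.adjugate := by
    rw [mul_add, add_mul, Matrix.mul_smul, Matrix.smul_mul, mul_one, Matrix.mul_adjugate, smul_smul]
  have h5 : (H * z * H.adjugate) * z = z * (H * z * H.adjugate) := by
    rw [h4, add_mul, mul_add, Matrix.smul_mul, Matrix.mul_smul, one_mul, mul_one] at h3
    exact add_left_cancel h3
  have h6 : (H * z * H.adjugate).trace = 0 := by
    rw [Matrix.trace_mul_comm, ← mul_assoc, Matrix.adjugate_mul]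
    simp [Matrix.trace_smul, hz]
  obtain ⟨b, hb⟩ := prop_of_comm h2 hz0 hz h6 h5
  refine ⟨b * (H.det)⁻¹, ?_⟩
  have h7 : H.det • (H * z) = b • (z * H) := by
    calc H.det • (H * z) = H * z * (H.adjugate * H) := by
          rw [Matrix.adjugate_mul]; simp
      _ = (H * z * H.adjugate) * H := by simp only [mul_assoc]
      _ = b • (z * H) := by rw [hb, Matrix.smul_mul]
  have h8 := congrArg (fun X => (H.det)⁻¹ • X) h7
  simpa [smul_smul, inv_mul_cancel₀ hH.1, mul_comm b] using h8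

/-- two elements whose matrices commute with a line commute up to `Triv` -/
theorem comm_of_axis {A D z : M2 F} {a b : F} (hz : A = a • (1 : M2 F) + b • z) (hc : D * z = z * D) : A * D = D * A := by
  rw [hz, add_mul, mul_add, Matrix.smul_mul, Matrix.smul_mul, Matrix.mul_smul, Matrix.mul_smul, hc, one_mul,
    mul_one]

end axis

end Cfsg.Agent.GTwoOdd
end

-- part: GTwoOdd/Core/OddX
section
/-!
# Subgroups of odd order of `C(v) / O(C(v))`

`X` a finite group with a central involution `t` and `L : LocalSL t F1 F2`, `H : L.Hyp`.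

* `Hyp.comm_sq_of_inv`: a subgroup of odd order normalised by `a` and `w`, where `s = a²` is an
  involution `≠ t` and `w` inverts `a`, is centralised by `s`;
* `Hyp.exists_coord1`, `Hyp.exists_coord2`: an `r`-group normalised by `v`, `w` (anticommuting in both
  coordinates) has in each coordinate a centralising element in `{v, w, wv}`;
* `Hyp.exists_trivial`: for one `u` of `{v, w, wv}` the part in `C0` of the centraliser of `u` is trivial.
-/

set_option autoImplicit false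

namespace Cfsg.Agent.GTwoOdd

open Matrix

/-- a matrix commuting with two anticommuting matrices is scalar -/
theorem scalar_of_comm_anti {F : Type*} [Field F] (h2 : (2 : F) ≠ 0) {D n A : M2 F} (hD : D.det ≠ 0) (hn : n.det ≠ 0)
    (hnD : n * D = -(D * n)) (h1 : A * D = D * A) (h3 : A * n = n * A) : ∃ a : F, A = a • (1 : M2 F) := by
  have htD : D.trace = 0 := trace_of_anti h2 hn (by rw [hnD, neg_neg])
  obtain ⟨a, b, rfl⟩ := cent_form h2 hD htD h1
  refine ⟨a, ?_⟩
  have h4 : b • (D * n) = b • (n * D) := by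
    rw [add_mul, mul_add, Matrix.smul_mul, Matrix.smul_mul, Matrix.mul_smul, Matrix.mul_smul, one_mul, mul_one] at h3
    exact add_left_cancel h3
  rw [hnD, smul_neg] at h4
  have h5 : (2 * b) • (D * n) = 0 := by
    rw [two_mul, add_smul]
    nth_rewrite 1 [h4]
    exact neg_add_cancel _
  rcases smul_eq_zero.1 h5 with h6 | h6
  · rcases mul_eq_zero.1 h6 with h7 | h7
    · exact absurd h7 h2
    · rw [h7, zero_smul, add_zero]
  · exfalso
    have := congrArg Matrix.det h6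
    rw [Matrix.det_mul] at this
    simp [hD, hn] at this

namespace LocalSL

variable {X : Type*} [Group X] {t : X} {F1 F2 : Type*} [Field F1] [Field F2] [Finite F1] [Finite F2]
  {L : LocalSL t F1 F2}

set_option linter.unusedSectionVars false

/-- `c` of odd order which acts trivially on `L1` and on `L2` is `1` -/
theorem eq_one_of_triv {c : X} (hc : c * t = t * c) (h1 : Triv L.e1 c) (h2 : Triv L.e2 c) {m : ℕ} (hm : Odd m)
    (h : c ^ m = 1) : c = 1 := by
  rcases L.cent c hc h1 h2 with h3 | h3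
  · exact h3
  · obtain ⟨k, rfl⟩ := hm
    rw [pow_succ, pow_mul, pow_two, h3, L.t_sq, one_pow, one_mul] at h
    rw [h3, h]

/-- `2`-elements lie in `C0` -/
theorem Hyp.rep_of_two_pow (H : L.Hyp) {c : X} (hc : c * t = t * c) {k : ℕ} (h : c ^ (2 ^ k) = 1) :
    ∃ A B, L.Rep c A B := by
  induction k generalizing c with
  | zero =>
    rw [pow_zero, pow_one] at h
    rw [h]
    exact ⟨1, 1, Rep.one L⟩
  | succ k ih =>
    apply H.sq_mem c hc
    apply ih
    · exact ((show Commute c t from hc).mul_left hc)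
    · rw [← pow_two, ← pow_mul, ← pow_succ']
      exact h

/-- the axis in the first coordinate of an `r`-group in `C0` -/
theorem Hyp.axis1 (H : L.Hyp) {r : ℕ} (hr : r.Prime) (hr2 : r ≠ 2) (R : Subgroup X) [Finite R] (hR : IsPGroup r R)
    (hA : ∀ c ∈ R, ∃ A B, L.Rep c A B) :
    (∀ c ∈ R, Triv L.e1 c) ∨ ∃ z : M2 F1, z ≠ 0 ∧ z.trace = 0 ∧
      (∀ c ∈ R, ∀ A, Acts L.e1 c A → ∃ a b : F1, A = a • (1 : M2 F1) + b • z) ∧
      ∀ (h : X) (H : M2 F1), (∀ c ∈ R, h * c * h⁻¹ ∈ R) → Acts L.e1 h H → ∃ c : F1, H * z = c • (z * H) := by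
  by_cases h : ∀ c ∈ R, Triv L.e1 c
  · exact Or.inl h
  · push Not at h
    obtain ⟨c, hc, hc'⟩ := h
    exact Or.inr (exists_axis H.two_ne1 L.inj1 hr hr2 R hR
      (fun c hc => (hA c hc).imp fun A ⟨B, h⟩ => h.acts1) ⟨c, hc, hc'⟩)

/-- the axis in the second coordinate of an `r`-group in `C0` -/
theorem Hyp.axis2 (H : L.Hyp) {r : ℕ} (hr : r.Prime) (hr2 : r ≠ 2) (R : Subgroup X) [Finite R] (hR : IsPGroup r R)
    (hA : ∀ c ∈ R, ∃ A B, L.Rep c A B) :
    (∀ c ∈ R, Triv L.e2 c) ∨ ∃ z : M2 F2, z ≠ 0 ∧ z.trace = 0 ∧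
      (∀ c ∈ R, ∀ A, Acts L.e2 c A → ∃ a b : F2, A = a • (1 : M2 F2) + b • z) ∧
      ∀ (h : X) (H : M2 F2), (∀ c ∈ R, h * c * h⁻¹ ∈ R) → Acts L.e2 h H → ∃ c : F2, H * z = c • (z * H) := by
  by_cases h : ∀ c ∈ R, Triv L.e2 c
  · exact Or.inl h
  · push Not at h
    obtain ⟨c, hc, hc'⟩ := h
    exact Or.inr (exists_axis H.two_ne2 L.inj2 hr hr2 R hR
      (fun c hc => let ⟨A, B, h⟩ := hA c hc; ⟨B, h.acts2⟩) ⟨c, hc, hc'⟩)

/-- anticommuting data of two elements of `C0` -/
structure Anti (L : LocalSL t F1 F2) (v w : X) (D1 : M2 F1) (D2 : M2 F2) (n1 : M2 F1) (n2 : M2 F2) : Prop where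
  rep : L.Rep v D1 D2
  repw : L.Rep w n1 n2
  anti1 : n1 * D1 = -(D1 * n1)
  anti2 : n2 * D2 = -(D2 * n2)

/-- one coordinate of an `r`-group normalised by a four-group -/
theorem coord_of_axis {F : Type*} [Field F] (h2 : (2 : F) ≠ 0) {e : SL2 F →* X} {R : Subgroup X} {v w : X} {D n z : M2 F}
    (hv : ∀ c ∈ R, v * c * v⁻¹ ∈ R) (hw : ∀ c ∈ R, w * c * w⁻¹ ∈ R) (hD : Acts e v D) (hn : Acts e w n)
    (hnD : n * D = -(D * n)) (hz : z ≠ 0)
    (h1 : ∀ c ∈ R, ∀ A, Acts e c A → ∃ a b : F, A = a • (1 : M2 F) + b • z)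
    (h3 : ∀ (h : X) (H : M2 F), (∀ c ∈ R, h * c * h⁻¹ ∈ R) → Acts e h H → ∃ c : F, H * z = c • (z * H)) :
    (∀ c ∈ R, ∀ A, Acts e c A → A * D = D * A) ∨ (∀ c ∈ R, ∀ A, Acts e c A → A * n = n * A) ∨
      (∀ c ∈ R, ∀ A, Acts e c A → A * (n * D) = (n * D) * A) := by
  obtain ⟨a, ha⟩ := h3 v D hv hD
  obtain ⟨b, hb⟩ := h3 w n hw hn
  rcases comm_of_four h2 hD.1 hn.1 hnD hz ha hb with h | h | h
  · left
    intro c hc A hA
    obtain ⟨x, y, hxy⟩ := h1 c hc A hA
    exact comm_of_axis hxy h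
  · right; left
    intro c hc A hA
    obtain ⟨x, y, hxy⟩ := h1 c hc A hA
    exact comm_of_axis hxy h
  · right; right
    intro c hc A hA
    obtain ⟨x, y, hxy⟩ := h1 c hc A hA
    exact comm_of_axis hxy h

/-- if `c` (matrix `A`) commutes with `u` (matrix `U`) in the group, then `A` and `U` commute, `U` of order two,
`A` of odd order -/
theorem comm_of_comm {F : Type*} [Field F] (h2 : (2 : F) ≠ 0) {e : SL2 F →* X} (he : Function.Injective e) {c u : X}
    {A U : M2 F} (hA : Acts e c A) (hU : Acts e u U) (h : c * u = u * c) {m : ℕ} (hm : Odd m) (hc : c ^ m = 1) :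
    A * U = U * A := by
  have h1 := hA.mul hU
  have h3 := hU.mul hA
  rw [h] at h1
  obtain ⟨k, hk, hk'⟩ := h3.proportional he h1
  have hdet : k * k = 1 := by
    have := congrArg Matrix.det hk'
    rw [Matrix.det_mul, det_smul2, Matrix.det_mul] at this
    have h8 : A.det * U.det * (k * k - 1) = 0 := by linear_combination -this
    rcases mul_eq_zero.1 h8 with h9 | h9
    · exact absurd h9 (mul_ne_zero hA.1 hU.1)
    · linear_combination h9
  rcases mul_self_eq_one_iff.1 hdet with rfl | rfl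
  · rw [hk', one_smul]
  · exfalso
    rw [neg_one_smul] at hk'
    have htr : A.trace = 0 := trace_of_anti h2 hU.1 hk'
    have h9 := hA.mul hA
    rw [m2_sq_of_trace htr] at h9
    have ht : Triv e (c * c) := (h9.triv_iff he).2 ⟨_, rfl⟩
    obtain ⟨j, rfl⟩ := hm
    have h4 : ∀ m : ℕ, Triv e ((c * c) ^ m) := by
      intro m
      induction m with
      | zero => rw [pow_zero]; exact Triv.one
      | succ m ih => rw [pow_succ]; exact ih.mul ht
    have h5 : c = ((c * c) ^ j)⁻¹ := by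
      rw [eq_inv_iff_mul_eq_one]
      rw [← hc, ← pow_two, ← pow_mul]
      rw [pow_succ']
    have h6 : Triv e c := by
      rw [h5]; exact (h4 j).inv
    obtain ⟨a, ha⟩ := (hA.triv_iff he).1 h6
    have h7 : U ≠ 0 := by
      rintro rfl
      exact hU.1 (by simp)
    rw [ha, Matrix.smul_mul, Matrix.mul_smul, one_mul, mul_one] at hk'
    have h8 : (2 * a) • U = 0 := by
      rw [two_mul, add_smul]
      nth_rewrite 1 [hk']
      exact neg_add_cancel _
    rcases smul_eq_zero.1 h8 with h9 | h9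
    · rcases mul_eq_zero.1 h9 with h10 | h10
      · exact h2 h10
      · apply hA.1
        rw [ha, h10]
        simp
    · exact h7 h9

/-- the coordinate statement for one factor -/
theorem coord_triv {F : Type*} [Field F] (h2 : (2 : F) ≠ 0) {e : SL2 F →* X} (he : Function.Injective e) {r : ℕ}
    (hr : r.Prime) (hr2 : r ≠ 2) {R : Subgroup X} [Finite R] (hR : IsPGroup r R)
    (hRA : ∀ c ∈ R, ∃ A, Acts e c A) {v w : X} {D n : M2 F}
    (hv : ∀ c ∈ R, v * c * v⁻¹ ∈ R) (hw : ∀ c ∈ R, w * c * w⁻¹ ∈ R) (hD : Acts e v D) (hn : Acts e w n)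
    (hnD : n * D = -(D * n)) :
    ∃ u ∈ ({v, w, w * v} : Set X), ∀ u' ∈ ({v, w, w * v} : Set X), u' ≠ u → ∀ c ∈ R, c * u' = u' * c → Triv e c := by
  by_cases hnt : ∀ c ∈ R, Triv e c
  · exact ⟨v, by simp, fun _ _ _ c hc _ => hnt c hc⟩
  push Not at hnt
  obtain ⟨z, hz, hzt, h1, h3⟩ := exists_axis h2 he hr hr2 R hR hRA hnt
  have hnd : Acts e (w * v) (n * D) := hn.mul hD
  have hndD : (n * D) * D = -(D * (n * D)) := by
    rw [hnD, neg_mul, mul_assoc D n D, hnD]
  have hndn : n * (n * D) = -((n * D) * n) := by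
    rw [mul_assoc n D n, ← neg_eq_iff_eq_neg.2 hnD]
    simp
  have hodd : ∀ c ∈ R, ∃ m, Odd m ∧ c ^ m = 1 := by
    intro c hc
    obtain ⟨k, hk⟩ := hR ⟨c, hc⟩
    exact ⟨r ^ k, (hr.odd_of_ne_two hr2).pow, by have h9 := congrArg Subtype.val hk; simpa using h9⟩
  have key : ∀ {u u' : X} {U U' : M2 F}, Acts e u' U' → U.det ≠ 0 → U' * U = -(U * U') →
      (∀ c ∈ R, ∀ A, Acts e c A → A * U = U * A) → ∀ c ∈ R, c * u' = u' * c → Triv e c := by
    intro u u' U U' hU' hU hUU hcU c hc hcu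
    obtain ⟨A, hA⟩ := hRA c hc
    obtain ⟨m, hm, hcm⟩ := hodd c hc
    have h4 := comm_of_comm h2 he hA hU' hcu hm hcm
    obtain ⟨a, ha⟩ := scalar_of_comm_anti h2 hU hU'.1 hUU (hcU c hc A hA) h4
    exact (hA.triv_iff he).2 ⟨a, ha⟩
  rcases coord_of_axis h2 hv hw hD hn hnD hz h1 h3 with h | h | h
  · refine ⟨v, by simp, ?_⟩
    rintro u' (rfl | rfl | rfl) hne
    · exact absurd rfl hne
    · exact key (u := v) hn hD.1 hnD h
    · exact key (u := v) hnd hD.1 hndD h
  · refine ⟨w, by simp, ?_⟩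
    rintro u' (rfl | rfl | rfl) hne
    · exact key (u := w) hD hn.1 (by rw [hnD, neg_neg]) h
    · exact absurd rfl hne
    · exact key (u := w) hnd hn.1 (by rw [hndn, neg_neg]) h
  · refine ⟨w * v, by simp, ?_⟩
    rintro u' (rfl | rfl | rfl) hne
    · exact key (u := w * u') hD hnd.1 (by rw [hndD, neg_neg]) h
    · exact key (u := u' * v) hn hnd.1 hndn h
    · exact absurd rfl hne

/-- **[A3], coordinate 1** -/
theorem Hyp.coord1 (H : L.Hyp) {r : ℕ} (hr : r.Prime) (hr2 : r ≠ 2) {R : Subgroup X} [Finite R] (hR : IsPGroup r R)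
    (hRA : ∀ c ∈ R, ∃ A B, L.Rep c A B) {v w : X} {D1 n1 : M2 F1} {D2 n2 : M2 F2} (h : L.Anti v w D1 D2 n1 n2)
    (hv : ∀ c ∈ R, v * c * v⁻¹ ∈ R) (hw : ∀ c ∈ R, w * c * w⁻¹ ∈ R) :
    ∃ u ∈ ({v, w, w * v} : Set X), ∀ u' ∈ ({v, w, w * v} : Set X), u' ≠ u → ∀ c ∈ R, c * u' = u' * c → Triv L.e1 c :=
  coord_triv H.two_ne1 L.inj1 hr hr2 hR (fun c hc => let ⟨A, _, h⟩ := hRA c hc; ⟨A, h.acts1⟩) hv hw h.rep.acts1
    h.repw.acts1 h.anti1

/-- **[A3], coordinate 2** -/
theorem Hyp.coord2 (H : L.Hyp) {r : ℕ} (hr : r.Prime) (hr2 : r ≠ 2) {R : Subgroup X} [Finite R] (hR : IsPGroup r R)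
    (hRA : ∀ c ∈ R, ∃ A B, L.Rep c A B) {v w : X} {D1 n1 : M2 F1} {D2 n2 : M2 F2} (h : L.Anti v w D1 D2 n1 n2)
    (hv : ∀ c ∈ R, v * c * v⁻¹ ∈ R) (hw : ∀ c ∈ R, w * c * w⁻¹ ∈ R) :
    ∃ u ∈ ({v, w, w * v} : Set X), ∀ u' ∈ ({v, w, w * v} : Set X), u' ≠ u → ∀ c ∈ R, c * u' = u' * c → Triv L.e2 c :=
  coord_triv H.two_ne2 L.inj2 hr hr2 hR (fun c hc => let ⟨_, B, h⟩ := hRA c hc; ⟨B, h.acts2⟩) hv hw h.rep.acts2
    h.repw.acts2 h.anti2

/-- the elements of `C0` (those which have a `Rep`) -/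
def zeroG (L : LocalSL t F1 F2) : Subgroup X where
  carrier := {c | ∃ A B, L.Rep c A B}
  mul_mem' := fun ⟨_, _, h⟩ ⟨_, _, h'⟩ => ⟨_, _, h.mul h'⟩
  one_mem' := ⟨1, 1, Rep.one L⟩
  inv_mem' := fun ⟨_, _, h⟩ => ⟨_, _, h.inv⟩

theorem mem_zeroG {c : X} : c ∈ zeroG L ↔ ∃ A B, L.Rep c A B := Iff.rfl

/-- `[C(t), C(t)] ≤ C0` -/
theorem Hyp.mem_zeroG_comm (H : L.Hyp) {c d : X} (hc : c * t = t * c) (hd : d * t = t * d) :
    c * d * c⁻¹ * d⁻¹ ∈ zeroG L := by
  obtain ⟨x, y, h⟩ := H.comm_mem c d hc hd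
  have h1 : c * d * c⁻¹ * d⁻¹ = L.e1 x * L.e2 y := by
    rw [h]; group
  rw [h1]
  exact ⟨_, _, Rep.e12 L x y⟩

theorem Hyp.conj_mem_zeroG (H : L.Hyp) {c d : X} (hc : c * t = t * c) (hd : d ∈ zeroG L) : c * d * c⁻¹ ∈ zeroG L := by
  obtain ⟨A, B, h⟩ := hd
  have h1 : c * d * c⁻¹ = (c * d * c⁻¹ * d⁻¹) * d := by group
  rw [h1]
  exact (zeroG L).mul_mem (H.mem_zeroG_comm hc h.comm) ⟨A, B, h⟩

/-- **[A5]** an `r`-group normalised by `v` and `w` (anticommuting in both coordinates): for one `u` of `{v, w, wv}` the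
only element of its `C0`-part which commutes with `u` is `1` -/
theorem Hyp.exists_trivial (H : L.Hyp) (hX : ∀ c : X, c * t = t * c) {r : ℕ} (hr : r.Prime) (hr2 : r ≠ 2) {R : Subgroup X}
    [Finite R] (hR : IsPGroup r R) {v w : X} {D1 n1 : M2 F1} {D2 n2 : M2 F2} (h : L.Anti v w D1 D2 n1 n2)
    (hvw : v ≠ w) (hv1 : v ≠ 1) (hw1 : w ≠ 1)
    (hv : ∀ c ∈ R, v * c * v⁻¹ ∈ R) (hw : ∀ c ∈ R, w * c * w⁻¹ ∈ R) :
    ∃ u ∈ ({v, w, w * v} : Set X), ∀ c ∈ R, c ∈ zeroG L → c * u = u * c → c = 1 := by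
  have hfin : Finite (R ⊓ zeroG L : Subgroup X) := Finite.of_injective _ (Subgroup.inclusion_injective (inf_le_left : R ⊓ zeroG L ≤ R))
  have hR' : IsPGroup r (R ⊓ zeroG L : Subgroup X) := hR.to_le inf_le_left
  have hv' : ∀ c ∈ (R ⊓ zeroG L : Subgroup X), v * c * v⁻¹ ∈ (R ⊓ zeroG L : Subgroup X) := fun c hc =>
    ⟨hv c hc.1, H.conj_mem_zeroG (hX v) hc.2⟩
  have hw' : ∀ c ∈ (R ⊓ zeroG L : Subgroup X), w * c * w⁻¹ ∈ (R ⊓ zeroG L : Subgroup X) := fun c hc =>
    ⟨hw c hc.1, H.conj_mem_zeroG (hX w) hc.2⟩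
  obtain ⟨u1, hu1, k1⟩ := H.coord1 hr hr2 hR' (fun c hc => hc.2) h hv' hw'
  obtain ⟨u2, hu2, k2⟩ := H.coord2 hr hr2 hR' (fun c hc => hc.2) h hv' hw'
  have hex : ∃ u ∈ ({v, w, w * v} : Set X), u ≠ u1 ∧ u ≠ u2 := by
    have h3 : w * v ≠ v := by simpa using hw1
    have h4 : w * v ≠ w := by simpa using hv1
    rcases hu1 with rfl | rfl | rfl <;> rcases hu2 with rfl | rfl | rfl
    · exact ⟨w, by simp, hvw.symm, hvw.symm⟩
    · exact ⟨u2 * u1, by simp, h3, h4⟩
    · exact ⟨w, by simp, hvw.symm, h4.symm⟩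
    · exact ⟨u1 * u2, by simp, h4, h3⟩
    · exact ⟨v, by simp, hvw, hvw⟩
    · exact ⟨v, by simp, hvw, h3.symm⟩
    · exact ⟨w, by simp, h4.symm, hvw.symm⟩
    · exact ⟨v, by simp, h3.symm, hvw⟩
    · exact ⟨v, by simp, h3.symm, h3.symm⟩
  obtain ⟨u, hu, hne1, hne2⟩ := hex
  refine ⟨u, hu, fun c hc hcz hcu => ?_⟩
  obtain ⟨k, hk⟩ := hR ⟨c, hc⟩
  exact eq_one_of_triv (hX c) (k1 u hu hne1 c ⟨hc, hcz⟩ hcu) (k2 u hu hne2 c ⟨hc, hcz⟩ hcu)
    ((hr.odd_of_ne_two hr2).pow (n := k)) (by have h9 := congrArg Subtype.val hk; simpa using h9)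

end LocalSL

end Cfsg.Agent.GTwoOdd
end
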