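import Mathlib.GroupTheory.Sylow
import Cfsg.Agent.GTwoOdd.Setup
import Cfsg.Prelude.Def_Local
set_option linter.all false

/-!
# Core killing for `G₂(q)`-type Sylow 2-subgroups: interface

`Conf P S0 A W1 V`: the 2-group `P` is either `S0 = A⟨w⟩` (`A` abelian, `w` inverts `A`,
`V = Ω₁(A)` a four-group, every element of `V` a square in `A`, `S0 = C_P(V)`), or
`|P : S0| = 2` and `W1` is the wreathed subgroup of index 2 with `W1 ∩ S0 = A`.

`O v` is always `Cfsg.centralizerPPrimeCore 2 v` and `W_V` is `coreC V`.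
-/

set_option autoImplicit false

namespace Cfsg.Agent.GTwoOdd.Core

/-- `Conf` without the square roots -/
structure Pre {N : Type*} [Group N] (P S0 A W1 V : Subgroup N) : Prop where
  V_le : V ≤ A
  A_le : A ≤ S0
  S_le : S0 ≤ P
  A_le_W : A ≤ W1
  W_le : W1 ≤ P
  comm : ∀ a ∈ A, ∀ b ∈ A, a * b = b * a
  inv2 : ∀ x ∈ S0, x ∉ A → x * x = 1
  inv : ∀ x ∈ S0, x ∉ A → ∀ a ∈ A, x * a * x⁻¹ = a⁻¹
  idxA : ∀ x ∈ S0, x ∉ A → ∀ y ∈ S0, y ∉ A → x * y ∈ A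
  exw : ∃ w ∈ S0, w ∉ A
  memV : ∀ a ∈ A, (a ∈ V ↔ a * a = 1)
  cardV : Nat.card V = 4
  four : ∃ c ∈ A, c * c ≠ 1
  cent : ∀ x ∈ P, (∀ v ∈ V, x * v = v * x) → x ∈ S0
  idxS : ∀ x ∈ P, x ∉ S0 → ∀ y ∈ P, y ∉ S0 → x * y ∈ S0
  idxW : ∀ x ∈ P, x ∉ W1 → ∀ y ∈ P, y ∉ W1 → x * y ∈ W1
  WS : W1 ⊓ S0 ≤ A
  /-- no elementary abelian subgroup of order 8 in `W1` -/
  rankW : ∀ E ≤ W1, (∀ x ∈ E, x * x = 1) → Nat.card E ≤ 4
  /-- if `P > S0` there is an involution outside `W1` and `S0` -/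
  exW2 : (∃ x ∈ P, x ∉ S0) → ∃ x ∈ P, x ∉ S0 ∧ x ∉ W1 ∧ x * x = 1

/-- a Sylow 2-subgroup `P` of the normaliser of an `r`-subgroup normalised by `S0` -/
structure Conf {N : Type*} [Group N] (P S0 A W1 V : Subgroup N) : Prop extends Pre P S0 A W1 V where
  root : ∀ v ∈ V, ∃ c ∈ A, c * c = v

/-- (H1): in `C(v)`, `v ∈ V#`, no element permutes transitively the involutions of a four-group -/
def NoThree {N : Type*} [Group N] (V : Subgroup N) : Prop :=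
  ∀ v ∈ V, v ≠ 1 → ∀ g z z' : N, g * v = v * g → z * v = v * z → z' * v = v * z' →
    z * z = 1 → z' * z' = 1 → z * z' = z' * z → g * z * g⁻¹ = z' → g * z' * g⁻¹ = z * z' → z = 1

/-- (H2): if `P > S0` and `t ∈ V#` is central in `P`, then the `C(t)`-conjugates of elements of `V`
which lie in `P` lie in `W1` -/
def InW {N : Type*} [Group N] (P S0 W1 V : Subgroup N) : Prop :=
  ∀ t ∈ V, t ≠ 1 → (∀ x ∈ P, x * t = t * x) → (∃ x ∈ P, x ∉ S0) →
    ∀ c, c * t = t * c → ∀ v ∈ V, c * v * c⁻¹ ∈ P → c * v * c⁻¹ ∈ W1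

/-- the involutions of `V` are fused by an element of odd order normalising `S0` -/
def Fused {N : Type*} [Group N] (S0 V : Subgroup N) : Prop :=
  ∃ x : N, Odd (orderOf x) ∧ (∀ y ∈ S0, x * y * x⁻¹ ∈ S0) ∧
    ∀ v ∈ V, v ≠ 1 → x * v * x⁻¹ ∈ V ∧ x * v * x⁻¹ ≠ v

/-- conclusion of the fusion lemma [F] -/
def FusionOut {N : Type*} [Group N] (P S0 A W1 V : Subgroup N) : Prop :=
  (∃ v ∈ V, v ≠ 1 ∧ (∀ x ∈ P, x * v = v * x) ∧ ∀ g : N, g * v * g⁻¹ ∈ P → g * v * g⁻¹ = v) ∨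
  (Fused S0 V ∧ ∃ K : Subgroup N, K.Normal ∧ (∃ n : ℕ, K.index = 2 ^ n) ∧ (∀ H : Subgroup K, H.index ≠ 2) ∧
    (K ⊓ P = A ∨ (K ⊓ P = W1 ∧ ∃ x ∈ P, x ∉ S0)))

/-- the odd core of the centraliser of a subgroup, as a subgroup of `G` -/
def coreC {G : Type*} [Group G] (V : Subgroup G) : Subgroup G :=
  (Cfsg.pPrimeCore 2 (Subgroup.centralizer (V : Set G))).map (Subgroup.centralizer (V : Set G)).subtype

/-- the image of `t` in `C(t)/O(C(t))` -/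
def bar {G : Type*} [Group G] (t : G) :
    Subgroup.centralizer ({t} : Set G) →*
      Subgroup.centralizer ({t} : Set G) ⧸ Cfsg.pPrimeCore 2 (Subgroup.centralizer ({t} : Set G)) :=
  QuotientGroup.mk' _

/-- local hypothesis: `C(t)/O(C(t))` has the structure of the centraliser of an involution in `G₂(q)`, `³D₄(q)` -/
def LocHyp {G : Type*} [Group G] (t : G) : Prop :=
  ∃ (F1 F2 : Type) (_ : Field F1) (_ : Field F2) (_ : Finite F1) (_ : Finite F2)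
    (L : LocalSL (bar t ⟨t, Subgroup.mem_centralizer_singleton_iff.2 rfl⟩) F1 F2), L.Hyp

end Cfsg.Agent.GTwoOdd.Core
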